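import Groth.Agent.SplitFibLib.Cone
import Groth.Agent.BorelLib.Facts
import Groth.Agent.BorelLib.RedTorus

/-!
# The root datum of a split reductive group is reduced
-/

set_option autoImplicit false
set_option linter.style.haveILetI false
set_option linter.unusedSectionVars false
set_option backward.isDefEq.respectTransparency false
set_option maxHeartbeats 1000000
set_option synthInstance.maxHeartbeats 400000

universe u

open CategoryTheory CategoryTheory.Limits MonoidalCategory CartesianMonoidalCategory AlgebraicGeometry WithConv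
open scoped MonObj
open CoactBr (sp)
open Groth.Agent.BorelLib

noncomputable section

attribute [-instance] CategoryTheory.Hom.commGroup

namespace SplitFib

attribute [local instance] pTop pTopTensor

open SplitCell

variable {S : Scheme.{u}} {G : Over S} [GrpObj G] (D : Red.SplitRed G)

/-- **The geometric fibre of a split group at a point.** -/
theorem exists_fibre (s : S) :
    IsAffine (Red.bc (Red.geomPt s) G).left ∧ Smooth (Red.bc (Red.geomPt s) G).hom ∧
    ∃ (A : Type u) (_ : CommRing A) (_ : HopfAlgebra (AlgebraicClosure (S.residueField s)) A)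
      (v : sp (AlgebraicClosure (S.residueField s)) A ≅ Red.bc (Red.geomPt s) G) (_ : IsMonHom v.hom),
      Algebra.FiniteType (AlgebraicClosure (S.residueField s)) A ∧ _root_.IsReduced A ∧
      _root_.IsPreconnected (Set.univ : Set (Pt (AlgebraicClosure (S.residueField s)) A)) ∧
      IsRedPts (AlgebraicClosure (S.residueField s)) A ∧ IsMaxTor ⊤ (Tsub D (Red.geomPt s) v) := by
  have hred : Red.IsReductiveOver (AlgebraicClosure (S.residueField s)) (Red.geomFibre s G) := D.reductive.2.2 s
  obtain ⟨ha, hsm, hconn, -⟩ := id hred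
  haveI : IsAffine (Red.bc (Red.geomPt s) G).left := ha
  haveI : Smooth (Red.bc (Red.geomPt s) G).hom := hsm
  haveI : ConnectedSpace (Red.bc (Red.geomPt s) G).left := hconn
  obtain ⟨A, _, _, v, hv, hA, hA'⟩ := exists_setup (Red.bc (Red.geomPt s) G)
  haveI := hv; haveI := hA
  refine ⟨ha, hsm, A, _, _, v, hv, hA, hA', isPreconnected_univ_of_connected v, isRedPts_of_isReductiveOver v hred, ?_⟩
  haveI := isMonHom_i D
  haveI := mono_i D
  haveI := Groth.Agent.DiagRep.isMonHom_bc_map (Red.geomPt s) D.i
  haveI := mono_bc (Red.geomPt s) D.i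
  rw [← ptsSub_i]
  exact isMaxTor_ptsSub v ⟨inferInstance, inferInstance, Groth.Agent.RedRank.isTorus_bc D.maximalTorus.2.2.1 _,
    fun T' _ j _ _ f hT' hf => D.maximalTorus.2.2.2 s T' j f hT' hf⟩

/-- **The root datum is reduced.** -/
theorem isReduced_root [Nonempty S] : D.P.IsReduced := by
  obtain ⟨s⟩ := (inferInstance : Nonempty S)
  obtain ⟨ha, hsm, A, _, _, v, hv, hA, hA', hconn, hred, hT⟩ := exists_fibre D s
  haveI := ha; haveI := hsm; haveI := hv; haveI := hA; haveI := hA'
  refine ⟨fun i j hij => ?_⟩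
  obtain ⟨L, hi⟩ := exists_line D i
  have hj := L.mem_of_dependent hi hij
  obtain ⟨b⟩ := exists_sides D.P
  have key : ∀ (b : Sides D.P) {k₁ k₂}, k₁ ∈ L.roots → k₁ ∈ b.neg → k₂ ∈ L.roots → k₂ ∈ b.neg → k₁ = k₂ :=
    fun b _ _ h1 h1' h2 h2' => eq_of_mem_line_neg (Red.geomPt s) v L b hconn hred hT ⟨h1, h1'⟩ ⟨h2, h2'⟩
  have hsame : ∀ {k₁ k₂}, k₁ ∈ L.roots → k₂ ∈ L.roots → (k₁ ∈ b.pos ↔ k₂ ∈ b.pos) → k₁ = k₂ := by
    intro k₁ k₂ h1 h2 h
    rcases b.total k₁ with hp | hn
    · exact key (flipSides b) h1 hp h2 (h.1 hp)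
    · refine key b h1 hn h2 ((b.total k₂).resolve_left fun hp => b.notMem_neg (h.2 hp) hn)
  by_cases hs : i ∈ b.pos ↔ j ∈ b.pos
  · exact Or.inl (congrArg D.P.root (hsame hi hj hs))
  right
  let j' := D.P.reflectionPerm j j
  have hr : D.P.root j' = -D.P.root j := by
    rw [RootPairing.root_reflectionPerm, RootPairing.reflection_apply_self]
  have hj' : j' ∈ L.roots := by
    show D.P.root j' = L.co (D.P.root j') • L.χ
    rw [hr, map_neg, neg_smul]
    exact congrArg Neg.neg hj
  obtain ⟨g, h1, h2⟩ := b.regular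
  have hflip : j' ∈ b.pos ↔ j ∉ b.pos := by
    constructor
    · intro hp hq
      have := h1 _ hp
      rw [hr, map_neg] at this
      have := h1 _ hq
      omega
    · intro hq
      refine (b.total j').resolve_right fun hn => ?_
      have := h2 _ hn
      rw [hr, map_neg] at this
      have := h2 _ ((b.total j).resolve_left hq)
      omega
  rw [hsame hi hj' (by tauto), hr]

end SplitFib

end
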