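import Groth.Agent.SplitFibLib.Subgroups
import Mathlib.RingTheory.UniqueFactorizationDomain.Basic

/-!
# Families of points of a geometric fibre
-/

set_option autoImplicit false
set_option linter.style.haveILetI false
set_option linter.unusedSectionVars false
set_option backward.isDefEq.respectTransparency false
set_option maxHeartbeats 1000000
set_option synthInstance.maxHeartbeats 400000

universe u

open CategoryTheory CategoryTheory.Limits MonoidalCategory CartesianMonoidalCategory AlgebraicGeometry WithConv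
open scoped MonObj LaurentPolynomial
open CoactBr (sp)
open Groth.Agent.BorelLib

noncomputable section

attribute [-instance] CategoryTheory.Hom.commGroup

namespace SplitFib

attribute [local instance] pTop pTopTensor

open SplitCell

/-- A unit of the Laurent polynomials over a field is a monomial. -/
theorem exists_monomial {K : Type u} [Field K] {r : K[T;T⁻¹]} (h : IsUnit r) :
    ∃ (c : K) (n : ℤ), r = LaurentPolynomial.C c * LaurentPolynomial.T n := by
  obtain ⟨s, hs⟩ := h.exists_right_inv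
  obtain ⟨i, p, hp⟩ := LaurentPolynomial.exists_T_pow r
  obtain ⟨j, q, hq⟩ := LaurentPolynomial.exists_T_pow s
  have h1 : p * q = Polynomial.X ^ (i + j) := Polynomial.toLaurent_injective <| by
    rw [map_mul, hp, hq, Polynomial.toLaurent_X_pow, Nat.cast_add, LaurentPolynomial.T_add]
    linear_combination (LaurentPolynomial.T (i : ℤ) * LaurentPolynomial.T (j : ℤ)) * hs
  obtain ⟨l, -, hl⟩ := (dvd_prime_pow Polynomial.prime_X (i + j)).1 (Dvd.intro q h1)
  obtain ⟨w, hw⟩ := hl.symm
  obtain ⟨c, -, hc⟩ := Polynomial.isUnit_iff.1 w.isUnit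
  refine ⟨c, (l : ℤ) - i, ?_⟩
  refine (LaurentPolynomial.isUnit_T (R := K) (i : ℤ)).mul_right_cancel ?_
  rw [← hp, ← hw, ← hc, map_mul, Polynomial.toLaurent_X_pow, Polynomial.toLaurent_C, _root_.mul_assoc,
    ← LaurentPolynomial.T_add, sub_add_cancel, _root_.mul_comm]

variable {S : Scheme.{u}} {G : Over S} [GrpObj G] (D : Red.SplitRed G) {K : Type u} [Field K] [IsAlgClosed K]
  (a : Spec (CommRingCat.of K) ⟶ S) {A : Type u} [CommRing A] [HopfAlgebra K A]
  (v : sp K A ≅ Red.bc a G) [IsMonHom v.hom]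

variable {R : Type u} [CommRing R] [Algebra K R]

/-- The family of points given by a point over an algebra. -/
def fam (P : aP a R ⟶ G) (x : Pt K R) : Pt K A := ptG a v (aM a x.ofConv ≫ P)

theorem isMor_fam (P : aP a R ⟶ G) : IsMor (fam a v P) := isMor_family a v P

theorem fam_mul (P Q : aP a R ⟶ G) (x : Pt K R) : fam a v (P * Q) x = fam a v P x * fam a v Q x := by
  rw [fam, MonObj.comp_mul, map_mul]; rfl

theorem fam_inv (P : aP a R ⟶ G) (x : Pt K R) : fam a v P⁻¹ x = (fam a v P x)⁻¹ := by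
  rw [fam, GrpObj.comp_inv, map_inv]; rfl

/-- A point of the group as a constant family. -/
def cfam (g : Pt K A) : aP a R ⟶ G := aM a (Algebra.ofId K R) ≫ (ptG a v).symm g

theorem fam_cfam (g : Pt K A) (x : Pt K R) : fam a v (cfam a v (R := R) g) x = g := by
  rw [fam, cfam, ← Category.assoc, ← aM_comp, Subsingleton.elim (x.ofConv.comp (Algebra.ofId K R)) (AlgHom.id K K),
    aM_id, Category.id_comp]
  exact (ptG a v).apply_symm_apply g

theorem fam_pe {n : ℕ} (e : Fin n → D.idx) (c : Fin n → R) (x : Pt K R) :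
    fam a v (pe a (fun k => D.u (e k)) c) x = uPe D a v e fun k => x.ofConv (c k) := by
  rw [fam, aM_pe]; rfl

theorem fam_el (k : D.idx) (r : R) (x : Pt K R) : fam a v (el a (D.u k) r) x = uEl D a v k (x.ofConv r) := by
  rw [fam, aM_el]; rfl

theorem fam_torus (τ : aP a R ⟶ D.T) (x : Pt K R) :
    fam a v (τ ≫ D.i) x = torusHom D a v (aM a x.ofConv ≫ τ) := by
  rw [fam, ← Category.assoc]; rfl

/-- The characters of a point of the torus over an algebra. -/
def chR (τ : aP a R ⟶ D.T) (m : D.M) : R :=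
  (RingEquiv.ofBijective (cst a R) (cst_bijective a)).symm
    (MultSubLib.chars (τ ≫ D.split.hom.hom.hom) (Multiplicative.ofAdd m))

theorem isUnit_chR (τ : aP a R ⟶ D.T) (m : D.M) : IsUnit (chR D a τ m) :=
  (((MultSubLib.chars (τ ≫ D.split.hom.hom.hom)).toHomUnits (Multiplicative.ofAdd m)).isUnit).map _

theorem ch_aM (τ : aP a R ⟶ D.T) (x : Pt K R) (m : D.M) :
    (ch D a (aM a x.ofConv ≫ τ) (Multiplicative.ofAdd m) : K) = x.ofConv (chR D a τ m) := by
  refine (cst_bijective a).1 ?_
  rw [← aM_cst a x.ofConv]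
  refine ((cstE a).apply_symm_apply _).trans ?_
  show MultSubLib.chars ((aM a x.ofConv ≫ τ) ≫ D.split.hom.hom.hom) (Multiplicative.ofAdd m) = _
  rw [Category.assoc, MultSubLib.chars_comp]
  exact congrArg (fun r => (aM a x.ofConv).left.appTop r)
    ((RingEquiv.ofBijective (cst a R) (cst_bijective a)).apply_symm_apply
      (MultSubLib.chars (τ ≫ D.split.hom.hom.hom) (Multiplicative.ofAdd m))).symm

variable [Algebra.FiniteType K R] [IsReduced R]

/-- Families are determined by their values. -/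
theorem family_ext {P Q : aP a R ⟶ G} (h : ∀ x, fam a v P x = fam a v Q x) : P = Q := by
  refine ptR_injective a v (AlgHom.ext fun s => sub_eq_zero.1 (eq_zero_of_forall (k := K) fun x => ?_))
  have := congrArg (fun g : Pt K A => g.ofConv s) (h x)
  rw [fam, fam, ptG_aM, ptG_aM] at this
  rw [map_sub, sub_eq_zero]
  exact this

variable [Algebra.FiniteType K A] [IsAffine (Red.bc a G).left] [Smooth (Red.bc a G).hom]
variable (b : Sides D.P) {n m : ℕ} {eneg : Fin n → D.idx} {epos : Fin m → D.idx}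

/-- **A family in the cell has coordinates.** -/
theorem exists_coords (hneg : RedSub.Enumerates b.neg eneg) (hpos : RedSub.Enumerates b.pos epos) (P : aP a R ⟶ G)
    (h : ∀ x, fam a v P x ∈ cellPts D a v eneg epos) :
    ∃ (y : Fin n → R) (τ : aP a R ⟶ D.T) (c : Fin m → R), ∀ x : Pt K R, fam a v P x =
      uPe D a v eneg (fun k => x.ofConv (y k)) *
        (torusHom D a v (aM a x.ofConv ≫ τ) * uPe D a v epos fun k => x.ofConv (c k)) := by
  haveI := isOpenImmersion_cellMap D b hneg hpos
  let O := (RedSub.cellMap D eneg epos).left.opensRange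
  have htop : ∀ z : PrimeSpectrum R, P.left z ∈ O := by
    by_contra hne
    push Not at hne
    obtain ⟨z, hz⟩ := hne
    obtain ⟨x, hx⟩ := exists_pt_mem (k := K) (Z := (SetLike.coe (P.left ⁻¹ᵁ O) : Set (PrimeSpectrum R))ᶜ) ⟨z, hz⟩
      (P.left ⁻¹ᵁ O).2.isClosed_compl.isLocallyClosed
    obtain ⟨y, t, c, hc⟩ := h x
    have h1 : aM a x.ofConv ≫ P = cpt D a y t c ≫ RedSub.cellMap D eneg epos := by
      refine (ptG a v).injective ?_
      rw [cpt_cellMap, map_mul, map_mul]
      exact hc
    refine hx ?_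
    show P.left (toP x) ∈ O
    have hbot : (aM a x.ofConv ≫ P).left (⊥ : PrimeSpectrum K) = P.left (toP x) := by
      rw [Over.comp_left, Scheme.Hom.comp_apply]
      congr 1
      show PrimeSpectrum.comap x.ofConv.toRingHom ⊥ = _
      rw [toP]
      congr 1
      exact Subsingleton.elim _ _
    rw [← hbot, h1, Over.comp_left, Scheme.Hom.comp_apply]
    exact ⟨_, rfl⟩
  obtain ⟨w, hw⟩ := exists_lift_of_range (RedSub.cellMap D eneg epos) P (by
    rintro _ ⟨z, rfl⟩
    exact htop z)
  obtain ⟨y, τ, c, rfl⟩ := exists_cpt D a w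
  refine ⟨y, τ, c, fun x => ?_⟩
  rw [← hw, cpt_cellMap, fam_mul, fam_mul, fam_pe, fam_torus, fam_pe]

/-- A family in the torus has coordinates. -/
theorem exists_torus_coord (P : aP a R ⟶ G) (h : ∀ x, fam a v P x ∈ Tsub D a v) :
    ∃ τ : aP a R ⟶ D.T, ∀ x : Pt K R, fam a v P x = torusHom D a v (aM a x.ofConv ≫ τ) := by
  obtain ⟨b⟩ := exists_sides D.P
  obtain ⟨n, m, eneg, epos, hneg, hpos⟩ := exists_enum D b
  obtain ⟨y, τ, c, hP⟩ := exists_coords D a v b hneg hpos P fun x => by
    obtain ⟨t, ht⟩ := h x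
    exact ⟨0, t, 0, by rw [uPe_zero, uPe_zero, _root_.one_mul, _root_.mul_one, ht]⟩
  refine ⟨τ, fun x => ?_⟩
  obtain ⟨t, ht⟩ := h x
  obtain ⟨e1, -, e2⟩ := cellPts_inj D a v b hneg hpos (y := 0) (c := 0)
    (show uPe D a v eneg 0 * (torusHom D a v t * uPe D a v epos 0) =
        uPe D a v eneg (fun k => x.ofConv (y k)) *
          (torusHom D a v (aM a x.ofConv ≫ τ) * uPe D a v epos fun k => x.ofConv (c k)) by
      rw [uPe_zero, uPe_zero, _root_.one_mul, _root_.mul_one, ht, hP x])
  rw [hP x, ← e1, ← e2, uPe_zero, uPe_zero, _root_.one_mul, _root_.mul_one]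

omit [Algebra.FiniteType K R] [IsReduced R] in
/-- An irreducible parameter space gives a connected family. -/
theorem isPreconnected_range [Algebra.FiniteType K R] [IsDomain R] (P : aP a R ⟶ G) :
    _root_.IsPreconnected (Set.range (fam a v P)) := by
  rw [← Set.image_univ]
  exact (IsIrreducible.isPreirreducible isIrreducible_univ).isPreconnected.image _ (isMor_fam a v P).continuous.continuousOn

/-- The point of the punctured line. -/
def gmPt (z : Kˣ) : Pt K K[T;T⁻¹] := toConv (evT (R := K) z)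

theorem exists_gmPt (x : Pt K K[T;T⁻¹]) : ∃ z, gmPt z = x := by
  refine ⟨Units.map x.ofConv.toRingHom.toMonoidHom (unitT K), WithConv.ext (AlgHom.ext fun p => ?_)⟩
  show evT (R := K) _ p = x.ofConv p
  induction p using LaurentPolynomial.induction_on' with
  | add p q hp hq => rw [map_add, map_add, hp, hq]
  | C_mul_T n c =>
    have hC : x.ofConv (LaurentPolynomial.C c) = c := x.ofConv.commutes c
    have hT : ((Units.map x.ofConv.toRingHom.toMonoidHom (unitT K) ^ n : Kˣ) : K) =
        x.ofConv (LaurentPolynomial.T n) := by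
      rw [← map_zpow]
      show x.ofConv ((unitT K ^ n : (K[T;T⁻¹])ˣ) : K[T;T⁻¹]) = _
      congr 1
      have e : ∀ n : ℕ, ((unitT K ^ n : (K[T;T⁻¹])ˣ) : K[T;T⁻¹]) = LaurentPolynomial.T (n : ℤ) := fun n => by
        rw [Units.val_pow_eq_pow_val, unitT_val, LaurentPolynomial.T_pow, _root_.mul_one]
      obtain ⟨k, rfl | rfl⟩ := Int.eq_nat_or_neg n
      · rw [zpow_natCast, e]
      · rw [zpow_neg, zpow_natCast]
        refine Units.inv_eq_of_mul_eq_one_right ?_
        rw [e, ← LaurentPolynomial.T_add, add_neg_cancel, LaurentPolynomial.T_zero]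
    rw [map_mul, map_mul, evT_C, evT_T, hC, hT]

/-- The family of values of a cocharacter. -/
def cochFam (f : D.M →ₗ[ℤ] ℤ) : aP a K[T;T⁻¹] ⟶ G := gel a (coch D f) (unitT K)

theorem fam_cochFam (f : D.M →ₗ[ℤ] ℤ) (z : Kˣ) :
    fam a v (cochFam D a f) (gmPt z) = torusHom D a v (tc D a f z) := by
  rw [fam, cochFam, aM_gel]
  show ptG a v (gel a (coch D f) (Units.map (evT (R := K) z).toRingHom.toMonoidHom (unitT K))) = _
  rw [evT_unitT, ← tc_i]
  rfl

/-- A regular homomorphism from the multiplicative group to a character group is a power. -/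
theorem exists_zpow (τ : aP a K[T;T⁻¹] ⟶ D.T) (m : D.M)
    (hmul : ch D a (aM a (gmPt (1 : Kˣ)).ofConv ≫ τ) (Multiplicative.ofAdd m) = 1) :
    ∃ N : ℤ, ∀ z : Kˣ, ch D a (aM a (gmPt z).ofConv ≫ τ) (Multiplicative.ofAdd m) = z ^ N := by
  obtain ⟨c, N, hN⟩ := exists_monomial (isUnit_chR D a τ m)
  have key : ∀ z : Kˣ, (ch D a (aM a (gmPt z).ofConv ≫ τ) (Multiplicative.ofAdd m) : K) = c * ((z ^ N : Kˣ) : K) :=
    fun z => by
      rw [ch_aM, hN]
      show evT (R := K) z (_ * _) = _
      rw [map_mul, evT_C, evT_T]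
  have hc : c = 1 := by simpa [hmul] using (key 1).symm
  exact ⟨N, fun z => Units.ext (by rw [key z, hc, _root_.one_mul])⟩

end SplitFib

end
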