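import Groth.Agent.SplitFibLib.Maximal
import Groth.Agent.SplitFibLib.Reduced
import Groth.Agent.BorelLib.CentralPreimage

/-!
# The Borel subgroup of a system of positive roots
-/

set_option autoImplicit false
set_option linter.style.haveILetI false
set_option linter.unusedSectionVars false
set_option backward.isDefEq.respectTransparency false
set_option maxHeartbeats 1000000
set_option synthInstance.maxHeartbeats 400000

universe u

open CategoryTheory CategoryTheory.Limits MonoidalCategory CartesianMonoidalCategory AlgebraicGeometry WithConv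
open scoped MonObj
open CoactBr (sp)
open Groth.Agent.BorelLib

noncomputable section

attribute [-instance] CategoryTheory.Hom.commGroup

namespace SplitFib

attribute [local instance] pTop pTopTensor

open SplitCell

variable {S : Scheme.{u}} {G : Over S} [GrpObj G] (D : Red.SplitRed G) (b : Sides D.P) {m : ℕ} {epos : Fin m → D.idx}

theorem comp_borelMap {X : Over S} (t : X ⟶ D.T) (x : X ⟶ RedSub.pow (Red.Ga S) m) :
    lift t x ≫ RedSub.borelMap D epos = (t ≫ D.i) * (x ≫ rprod D epos) := by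
  rw [RedSub.borelMap, MonObj.comp_mul, lift_fst_assoc, lift_snd_assoc]

set_option maxHeartbeats 4000000 in
/-- **The product of the torus and the positive root groups is a subgroup.** -/
theorem exists_grpObj_borelMap (hpos : RedSub.Enumerates b.pos epos) :
    ∃ _ : GrpObj (D.T ⊗ RedSub.pow (Red.Ga S) m), IsMonHom (RedSub.borelMap D epos) := by
  have hs := isSatur_pos D b hpos
  have hp : ∀ k, epos k ∈ b.pos := fun k => hpos.2.subset (Set.mem_range_self k)
  obtain ⟨hmul, hinv, hone⟩ : (∀ (T : Over S) (x x' : T ⟶ RedSub.pow (Red.Ga S) m),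
      ∃ y, (x ≫ rprod D epos) * (x' ≫ rprod D epos) = y ≫ rprod D epos) ∧
      (∀ (T : Over S) (x : T ⟶ RedSub.pow (Red.Ga S) m), ∃ y, (x ≫ rprod D epos)⁻¹ = y ≫ rprod D epos) ∧
      ∀ T : Over S, ∃ y : T ⟶ RedSub.pow (Red.Ga S) m, y ≫ rprod D epos = 1 := by
    obtain ⟨grp, hhom⟩ := exists_grpObj b hs hpos.1 hp
    letI := grp
    haveI := hhom
    exact ⟨fun T x x' => ⟨x * x', (MonObj.mul_comp _ _ _).symm⟩, fun T x => ⟨x⁻¹, (GrpObj.inv_comp _ _).symm⟩,
      fun T => ⟨1, MonObj.one_comp _⟩⟩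
  haveI := isMonHom_i D
  haveI := mono_borelMap D b hpos
  let W := D.T ⊗ RedSub.pow (Red.Ga S) m
  let Sub : ∀ T : Over S, Subgroup (T ⟶ G) := fun T =>
    { carrier := {g | ∃ (t : T ⟶ D.T) (x : T ⟶ RedSub.pow (Red.Ga S) m), g = (t ≫ D.i) * (x ≫ rprod D epos)}
      one_mem' := ⟨1, (hone T).choose, by rw [(hone T).choose_spec, MonObj.one_comp, _root_.one_mul]⟩
      mul_mem' := by
        rintro _ _ ⟨t, x, rfl⟩ ⟨t', x', rfl⟩
        obtain ⟨x₁, hx₁⟩ := exists_conj (D := D) (e := epos) t'⁻¹ x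
        obtain ⟨y, hy⟩ := hmul T x₁ x'
        refine ⟨t * t', y, ?_⟩
        rw [MonObj.mul_comp, ← hy, ← hx₁, GrpObj.inv_comp]
        group
      inv_mem' := by
        rintro _ ⟨t, x, rfl⟩
        obtain ⟨y, hy⟩ := hinv T x
        obtain ⟨x₁, hx₁⟩ := exists_conj (D := D) (e := epos) t y
        refine ⟨t⁻¹, x₁, ?_⟩
        rw [← hx₁, GrpObj.inv_comp, ← hy]
        group }
  let Φ : (Over S)ᵒᵖ ⥤ GrpCat.{u} :=
    { obj := fun T => GrpCat.of (Sub T.unop)
      map := fun {T U} g => GrpCat.ofHom (MonoidHom.mk' (fun z => ⟨g.unop ≫ z.1, by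
          obtain ⟨t, x, h⟩ := z.2
          exact ⟨g.unop ≫ t, g.unop ≫ x, by rw [h, MonObj.comp_mul, Category.assoc, Category.assoc]⟩⟩)
        fun x y => Subtype.ext (MonObj.comp_mul _ _ _))
      map_id := fun T => GrpCat.hom_ext (MonoidHom.ext fun x => Subtype.ext (Category.id_comp x.1))
      map_comp := fun g h => GrpCat.hom_ext (MonoidHom.ext fun x => Subtype.ext (Category.assoc _ _ _)) }
  let α : (Φ ⋙ forget _).RepresentableBy W :=
    { homEquiv := fun {T} => Equiv.ofBijective (fun w => (⟨w ≫ RedSub.borelMap D epos, w ≫ fst _ _, w ≫ snd _ _, by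
          rw [RedSub.borelMap, MonObj.comp_mul, Category.assoc, Category.assoc]⟩ : Sub T))
        ⟨fun a b h => (cancel_mono (RedSub.borelMap D epos)).1 (congrArg Subtype.val h), fun z => by
          obtain ⟨t, x, h⟩ := z.2
          exact ⟨lift t x, Subtype.ext ((comp_borelMap D t x).trans h.symm)⟩⟩
      homEquiv_comp := fun h g => Subtype.ext (Category.assoc _ _ _) }
  letI grpW : GrpObj W := GrpObj.ofRepresentableBy W Φ α
  have hμ : μ[W] ≫ RedSub.borelMap D epos =
      (fst W W ≫ RedSub.borelMap D epos) * (snd W W ≫ RedSub.borelMap D epos) :=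
    congrArg Subtype.val (Equiv.apply_symm_apply (α.homEquiv (X := W ⊗ W)) _)
  exact ⟨grpW, Groth.Agent.BigCell.isMonHom_of_mul' _ fun T x y => by
    rw [Hom.mul_def, Category.assoc, hμ, MonObj.comp_mul, lift_fst_assoc, lift_snd_assoc]⟩

theorem smooth_src (m : ℕ) : Smooth (D.T ⊗ RedSub.pow (Red.Ga S) m).hom := by
  haveI := smoothRel_T D
  haveI : Smooth D.T.hom := SmoothOfRelativeDimension.smooth (Module.finrank ℤ D.M) _
  haveI := smoothRel_pow (S := S) m
  haveI : Smooth (RedSub.pow (Red.Ga S) m).hom := SmoothOfRelativeDimension.smooth m _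
  show Smooth (pullback.fst D.T.hom (RedSub.pow (Red.Ga S) m).hom ≫ D.T.hom)
  infer_instance

/-- **The product of the torus and the positive root groups is a Borel subgroup.** -/
theorem isBorel_borelMap (hpos : RedSub.Enumerates b.pos epos) [GrpObj (D.T ⊗ RedSub.pow (Red.Ga S) m)]
    [IsMonHom (RedSub.borelMap D epos)] : Red.IsBorel (RedSub.borelMap D epos) := by
  haveI := isClosedImmersion_borelMap D b hpos
  haveI := smooth_src D m
  refine ⟨inferInstance, inferInstance, inferInstance, fun s => ?_⟩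
  obtain ⟨ha, hsm, A, _, _, v, hv, hA, hA', hconn, hred, hT⟩ := exists_fibre D s
  haveI := ha; haveI := hsm; haveI := hv; haveI := hA; haveI := hA'
  haveI := Groth.Agent.DiagRep.isMonHom_bc_map (Red.geomPt s) (RedSub.borelMap D epos)
  haveI : IsClosedImmersion ((Over.pullback (Red.geomPt s)).map (RedSub.borelMap D epos)).left :=
    isClosedImmersion_bc (Red.geomPt s) (RedSub.borelMap D epos)
  haveI : Smooth (Red.bc (Red.geomPt s) (D.T ⊗ RedSub.pow (Red.Ga S) m)).hom :=
    MorphismProperty.pullback_snd (P := @Smooth) _ _ inferInstance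
  haveI : QuasiCompact (Red.bc (Red.geomPt s) G).hom := inferInstance
  obtain ⟨B₀, hB₀, hmem⟩ := isBor_bplus (Red.geomPt s) v b hconn hred hT hpos
  obtain ⟨B₁, _, iB, hiB, hBor, hpts⟩ := exists_borel_of_isBor v hB₀
  haveI := hiB
  haveI : IsClosedImmersion iB.left := hBor.2.1
  haveI : Smooth B₁.hom := hBor.2.2.1
  haveI : AlgebraicGeometry.IsReduced B₁.left := AlgSpLib.isReduced_of_smooth B₁.hom
  haveI : AlgebraicGeometry.IsReduced (Red.bc (Red.geomPt s) (D.T ⊗ RedSub.pow (Red.Ga S) m)).left :=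
    AlgSpLib.isReduced_of_smooth (Red.bc (Red.geomPt s) (D.T ⊗ RedSub.pow (Red.Ga S) m)).hom
  have heq : ptsSub v ((Over.pullback (Red.geomPt s)).map (RedSub.borelMap D epos)) = ptsSub v iB := by
    rw [hpts]
    ext x
    obtain ⟨g, rfl⟩ := (ptG (Red.geomPt s) v).surjective x
    rw [mem_ptsSub_bc, hmem]
    constructor
    · rintro ⟨h, rfl⟩
      obtain ⟨c, hc⟩ := exists_pw (Red.geomPt s) (h ≫ snd _ _)
      refine ⟨h ≫ fst _ _, c, ?_⟩
      rw [← lift_comp_fst_snd h, comp_borelMap, map_mul, ← hc, rprod, pw_prodMap, lift_fst]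
      rfl
    · rintro ⟨t, c, hx⟩
      refine ⟨lift t (pw (Red.geomPt s) c), (ptG (Red.geomPt s) v).injective ?_⟩
      rw [comp_borelMap, map_mul, hx, rprod, pw_prodMap]
      rfl
  obtain ⟨ψ, hψ⟩ := exists_iso_of_eq v heq
  haveI : IsMonHom (Iso.refl (Red.bc (Red.geomPt s) G)).hom := inferInstanceAs (IsMonHom (𝟙 _))
  exact CentPre.isBorelOver_iso hBor (Iso.refl _) ψ (by rw [Iso.refl_hom, Category.comp_id]; exact hψ)

end SplitFib

end
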