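import Groth.Agent.SplitFibLib.Torus

/-!
# The torus, the root groups and the cell on the points of a geometric fibre
-/

set_option autoImplicit false
set_option linter.style.haveILetI false
set_option linter.unusedSectionVars false
set_option backward.isDefEq.respectTransparency false
set_option maxHeartbeats 1000000
set_option synthInstance.maxHeartbeats 400000

universe u

open CategoryTheory CategoryTheory.Limits MonoidalCategory CartesianMonoidalCategory AlgebraicGeometry WithConv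
open scoped MonObj
open CoactBr (sp)
open Groth.Agent.BorelLib
open scoped commutatorElement

noncomputable section

attribute [-instance] CategoryTheory.Hom.commGroup

namespace SplitFib

attribute [local instance] pTop pTopTensor

open SplitCell

variable {S : Scheme.{u}} {G : Over S} [GrpObj G] (D : Red.SplitRed G) {K : Type u} [Field K] [IsAlgClosed K]
  (a : Spec (CommRingCat.of K) ⟶ S) {A : Type u} [CommRing A] [HopfAlgebra K A]
  (v : sp K A ≅ Red.bc a G) [IsMonHom v.hom]

/-- The torus on points. -/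
def torusHom : (aP a K ⟶ D.T) →* Pt K A :=
  (ptG a v).toMonoidHom.comp (MonoidHom.mk' (fun t => t ≫ D.i) fun t t' => by
    haveI := isMonHom_i D
    exact MonObj.mul_comp _ _ _)

/-- The points of the torus. -/
def Tsub : Subgroup (Pt K A) := (torusHom D a v).range

theorem torusHom_injective : Function.Injective (torusHom D a v) := fun t t' h => by
  haveI := mono_i D
  exact (cancel_mono D.i).1 ((ptG a v).injective h)

theorem ptsSub_i : haveI := isMonHom_i D; haveI := Groth.Agent.DiagRep.isMonHom_bc_map a D.i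
    ptsSub v ((Over.pullback a).map D.i) = Tsub D a v := by
  haveI := isMonHom_i D
  haveI := Groth.Agent.DiagRep.isMonHom_bc_map a D.i
  ext x
  obtain ⟨g, rfl⟩ := (ptG a v).surjective x
  rw [mem_ptsSub_bc]
  exact ⟨fun ⟨h, hh⟩ => ⟨h, congrArg (ptG a v) hh⟩, fun ⟨h, hh⟩ => ⟨h, (ptG a v).injective hh⟩⟩

/-- An element of a root group. -/
def uEl (k : D.idx) (r : K) : Pt K A := ptG a v (el a (D.u k) r)

/-- A product of root elements. -/
def uPe {n : ℕ} (e : Fin n → D.idx) (c : Fin n → K) : Pt K A := ptG a v (pe a (fun k => D.u (e k)) c)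

theorem uPe_zero {n : ℕ} (e : Fin n → D.idx) : uPe D a v e 0 = 1 := by
  haveI : ∀ k, IsMonHom ((fun k => D.u (e k)) k) := fun k => isMonHom_u D _
  rw [uPe, show (0 : Fin n → K) = fun _ => (0 : K) from rfl, pe_zero, map_one]

theorem uPe_single {n : ℕ} (e : Fin n → D.idx) (j : Fin n) (r : K) :
    uPe D a v e (Pi.single j r) = uEl D a v (e j) r := by
  haveI : ∀ k, IsMonHom ((fun k => D.u (e k)) k) := fun k => isMonHom_u D _
  rw [uPe, uEl, show (Pi.single j r : Fin n → K) = fun k => if k = j then r else 0 from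
    funext fun k => Pi.single_apply j r k, pe_single]

theorem conj_uPe {n : ℕ} (e : Fin n → D.idx) (t : aP a K ⟶ D.T) (c : Fin n → K) :
    torusHom D a v t * uPe D a v e c * (torusHom D a v t)⁻¹ =
      uPe D a v e fun k => (ch D a t (Multiplicative.ofAdd (D.P.root (e k))) : K) * c k := by
  show ptG a v (t ≫ D.i) * ptG a v _ * (ptG a v (t ≫ D.i))⁻¹ = ptG a v _
  rw [← map_inv, ← map_mul, ← map_mul]
  congr 1
  have hh := map_list_prod (MulAut.conj (t ≫ D.i)).toMonoidHom (List.ofFn fun k => el a (D.u (e k)) (c k))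
  rw [MulEquiv.coe_toMonoidHom, List.map_ofFn] at hh
  refine (MulAut.conj_apply _ _).symm.trans (hh.trans ?_)
  rw [pe]
  refine congrArg List.prod (congrArg List.ofFn (funext fun k => ?_))
  exact (MulAut.conj_apply _ _).trans (conj_el D a t (e k) (c k))

variable (b : Sides D.P)

theorem isSatur_pos {m : ℕ} {epos : Fin m → D.idx} (hpos : RedSub.Enumerates b.pos epos) : IsSatur D epos := by
  intro k d hd
  obtain ⟨f, hf₁, hf₂⟩ := b.regular
  rw [hpos.2]
  refine (b.total k).resolve_right fun hk => ?_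
  have h := congrArg f hd
  simp only [map_sum, map_zsmul, smul_eq_mul] at h
  have h0 : 0 ≤ ∑ i, (d i : ℤ) * f (D.P.root (epos i)) :=
    Finset.sum_nonneg fun i _ => mul_nonneg (Int.natCast_nonneg _) (hf₁ _ (hpos.2.subset (Set.mem_range_self i))).le
  have := hf₂ k hk
  omega

variable [Algebra.FiniteType K A] [IsAffine (Red.bc a G).left] [Smooth (Red.bc a G).hom]

/-- **The points of a saturated set of positive root groups.** -/
theorem exists_usub {l : ℕ} {e : Fin l → D.idx} (hs : IsSatur D e) (he : Function.Injective e)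
    (hp : ∀ k, e k ∈ b.pos) : ∃ U : Subgroup (Pt K A), (∀ x, x ∈ U ↔ ∃ c, x = uPe D a v e c) ∧
      IsClosed (U : Set (Pt K A)) ∧ _root_.IsPreconnected (U : Set (Pt K A)) ∧ ∀ x ∈ U, IsUni x := by
  obtain ⟨grp, hhom⟩ := exists_grpObj b hs he hp
  letI := grp
  haveI := hhom
  haveI := isClosedImmersion_rprod b he hp
  haveI := Groth.Agent.DiagRep.isMonHom_bc_map a (rprod D e)
  haveI : IsClosedImmersion ((Over.pullback a).map (rprod D e)).left := isClosedImmersion_bc a (rprod D e)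
  haveI := smoothRel_pow (S := S) l
  haveI : Smooth (RedSub.pow (Red.Ga S) l).hom := SmoothOfRelativeDimension.smooth l _
  haveI : Smooth (Red.bc a (RedSub.pow (Red.Ga S) l)).hom :=
    MorphismProperty.pullback_snd (P := @Smooth) _ _ inferInstance
  haveI := connectedSpace_pow a l
  haveI : LocallyOfFiniteType (Red.bc a G).hom := inferInstance
  refine ⟨ptsSub v ((Over.pullback a).map (rprod D e)), fun x => ?_, isClosed_ptsSub v, isPreconnected_ptsSub v,
    uni_of_hasNoSubtorus v _ (hasNoSubtorus_rprod b hs he hp a)⟩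
  obtain ⟨g, rfl⟩ := (ptG a v).surjective x
  rw [mem_ptsSub_bc]
  constructor
  · rintro ⟨h, rfl⟩
    obtain ⟨c, rfl⟩ := exists_pw a h
    exact ⟨c, by rw [uPe, pw_prodMap]⟩
  · rintro ⟨c, hc⟩
    exact ⟨pw a c, by rw [pw_prodMap]; exact ((ptG a v).injective hc).symm⟩

variable {n m : ℕ} {eneg : Fin n → D.idx} {epos : Fin m → D.idx}

/-- The points of the cell. -/
def cellPts (eneg : Fin n → D.idx) (epos : Fin m → D.idx) : Set (Pt K A) :=
  {x | ∃ y t c, x = uPe D a v eneg y * (torusHom D a v t * uPe D a v epos c)}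

theorem one_mem_cellPts : (1 : Pt K A) ∈ cellPts D a v eneg epos :=
  ⟨0, 1, 0, by rw [uPe_zero, uPe_zero, map_one, _root_.one_mul, _root_.one_mul]⟩

/-- **The cell is open.** -/
theorem isOpen_cellPts (hneg : RedSub.Enumerates b.neg eneg) (hpos : RedSub.Enumerates b.pos epos) :
    IsOpen (cellPts D a v eneg epos) := by
  obtain ⟨P, hP⟩ := exists_ptR a v (AlgHom.id K A)
  have hcomp : ∀ x : Pt K A, ptG a v (aM a x.ofConv ≫ P) = x := fun x => by
    rw [ptG_aM, hP]
    rfl
  haveI := isOpenImmersion_cellMap D b hneg hpos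
  let O := (RedSub.cellMap D eneg epos).left.opensRange
  suffices h : cellPts D a v eneg epos = toP ⁻¹' (SetLike.coe (P.left ⁻¹ᵁ O)) by
    rw [h]
    exact (P.left ⁻¹ᵁ O).2.preimage continuous_induced_dom
  have hbot : ∀ x : Pt K A, (aM a x.ofConv ≫ P).left (⊥ : PrimeSpectrum K) = P.left (toP x) := fun x => by
    rw [Over.comp_left, Scheme.Hom.comp_apply]
    congr 1
    show PrimeSpectrum.comap x.ofConv.toRingHom ⊥ = _
    rw [toP]
    congr 1
    exact Subsingleton.elim _ _
  ext x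
  constructor
  · rintro ⟨y, t, c, rfl⟩
    have h1 : aM a ((uPe D a v eneg y * (torusHom D a v t * uPe D a v epos c))).ofConv ≫ P =
        cpt D a y t c ≫ RedSub.cellMap D eneg epos := by
      refine (ptG a v).injective ?_
      rw [hcomp, cpt_cellMap, map_mul, map_mul]
      rfl
    show P.left (toP _) ∈ O
    rw [← hbot, h1, Over.comp_left, Scheme.Hom.comp_apply]
    exact ⟨_, rfl⟩
  · intro hx
    obtain ⟨w, hw⟩ := exists_lift_of_range (RedSub.cellMap D eneg epos) (aM a x.ofConv ≫ P) (by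
      rintro _ ⟨z, rfl⟩
      rw [Subsingleton.elim (α := PrimeSpectrum K) z ⊥, hbot]
      exact hx)
    obtain ⟨y, t, c, rfl⟩ := exists_cpt D a w
    rw [cpt_cellMap] at hw
    exact ⟨y, t, c, by rw [← hcomp x, ← hw, map_mul, map_mul]; rfl⟩

/-- Uniqueness of the coordinates. -/
theorem cellPts_inj (hneg : RedSub.Enumerates b.neg eneg) (hpos : RedSub.Enumerates b.pos epos)
    {y y' : Fin n → K} {t t' : aP a K ⟶ D.T} {c c' : Fin m → K}
    (h : uPe D a v eneg y * (torusHom D a v t * uPe D a v epos c) =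
      uPe D a v eneg y' * (torusHom D a v t' * uPe D a v epos c')) : y = y' ∧ t = t' ∧ c = c' := by
  refine cell_inj D b a hneg hpos ((ptG a v).injective ?_)
  rw [map_mul, map_mul, map_mul, map_mul]
  exact h

/-- **The subgroup `T U⁺`.** -/
theorem exists_bplus (hpos : RedSub.Enumerates b.pos epos) (hTtor : IsTor (Tsub D a v)) :
    ∃ B₀ : Subgroup (Pt K A), (∀ x, x ∈ B₀ ↔ ∃ t c, x = torusHom D a v t * uPe D a v epos c) ∧
      _root_.IsPreconnected (B₀ : Set (Pt K A)) ∧ IsSol B₀ := by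
  obtain ⟨U, hU, hUc, hUp, hUu⟩ := exists_usub D a v b (isSatur_pos D b hpos) hpos.1
    fun k => hpos.2.subset (Set.mem_range_self k)
  have hnorm : ∀ t, ∀ u ∈ U, torusHom D a v t * u * (torusHom D a v t)⁻¹ ∈ U := fun t u hu => by
    obtain ⟨c, rfl⟩ := (hU u).1 hu
    exact (hU _).2 ⟨_, conj_uPe D a v epos t c⟩
  let B₀ : Subgroup (Pt K A) :=
    { carrier := {x | ∃ t, ∃ u ∈ U, x = torusHom D a v t * u}
      one_mem' := ⟨1, 1, U.one_mem, by rw [map_one, _root_.one_mul]⟩
      mul_mem' := by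
        rintro _ _ ⟨t, u, hu, rfl⟩ ⟨t', u', hu', rfl⟩
        refine ⟨t * t', (torusHom D a v t'⁻¹ * u * (torusHom D a v t'⁻¹)⁻¹) * u', U.mul_mem (hnorm _ _ hu) hu', ?_⟩
        rw [map_mul, map_inv]
        group
      inv_mem' := by
        rintro _ ⟨t, u, hu, rfl⟩
        refine ⟨t⁻¹, torusHom D a v t * u⁻¹ * (torusHom D a v t)⁻¹, hnorm _ _ (U.inv_mem hu), ?_⟩
        rw [map_inv]
        group }
  refine ⟨B₀, fun x => ⟨fun ⟨t, u, hu, hx⟩ => ?_, fun ⟨t, c, hx⟩ => ⟨t, _, (hU _).2 ⟨c, rfl⟩, hx⟩⟩, ?_, ?_⟩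
  · obtain ⟨c, rfl⟩ := (hU u).1 hu
    exact ⟨t, c, hx⟩
  · refine isPreconnected_of_forall (1 : Pt K A) fun x hx => ?_
    obtain ⟨t, u, hu, rfl⟩ := hx
    refine ⟨(Tsub D a v : Set (Pt K A)) ∪ (fun y => torusHom D a v t * y) '' (U : Set (Pt K A)), ?_,
      Or.inl (Tsub D a v).one_mem, Or.inr ⟨u, hu, rfl⟩, ?_⟩
    · rintro _ (⟨t', rfl⟩ | ⟨y, hy, rfl⟩)
      · exact ⟨t', 1, U.one_mem, (_root_.mul_one _).symm⟩
      · exact ⟨t, y, hy, rfl⟩
    · exact IsPreconnected.union (torusHom D a v t) ⟨t, rfl⟩ ⟨1, U.one_mem, _root_.mul_one _⟩ hTtor.conn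
        (hUp.image _ (Groth.Agent.BorelLib.continuous_const_mul _).continuousOn)
  · obtain ⟨n, hn⟩ := isSol_of_uni hUc hUp hUu
    have hcomm : ∀ t t', torusHom D a v t * torusHom D a v t' = torusHom D a v t' * torusHom D a v t := fun t t' => by
      rw [← map_mul, ← map_mul]
      congr 1
      exact ch_injective D a (by rw [ch_mul, ch_mul]; exact _root_.mul_comm (ch D a t) (ch D a t'))
    refine ⟨n + 1, le_bot_iff.1 ((der_succ' B₀ n).trans_le ((der_mono ?_ n).trans hn.le))⟩
    refine Subgroup.commutator_le.2 ?_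
    rintro x ⟨t, u, hu, rfl⟩ y ⟨t', u', hu', rfl⟩
    have e : ∀ τ τ' w w' : Pt K A, τ * τ' = τ' * τ →
        ⁅τ * w, τ' * w'⁆ = τ * w * τ⁻¹ * (τ * τ' * (w' * w⁻¹) * (τ * τ')⁻¹) * (τ' * w'⁻¹ * τ'⁻¹) := by
      intro τ τ' w w' h
      have h' : τ'⁻¹ * τ⁻¹ * τ' = τ⁻¹ := by
        rw [← _root_.mul_inv_rev, h, _root_.mul_inv_rev, _root_.mul_assoc, inv_mul_cancel, _root_.mul_one]
      calc ⁅τ * w, τ' * w'⁆ = τ * w * τ' * w' * w⁻¹ * τ⁻¹ * w'⁻¹ * τ'⁻¹ := by rw [commutatorElement_def]; group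
        _ = τ * w * τ' * w' * w⁻¹ * (τ'⁻¹ * τ⁻¹ * τ') * w'⁻¹ * τ'⁻¹ := by rw [h']
        _ = _ := by group
    rw [e _ _ _ _ (hcomm t t'), ← map_mul]
    exact U.mul_mem (U.mul_mem (hnorm _ _ hu) (hnorm _ _ (U.mul_mem hu' (U.inv_mem hu))))
      (hnorm _ _ (U.inv_mem hu'))

end SplitFib

end
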