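import Groth.Agent.SplitCellLib.UnipFibre
import Groth.Agent.RootSys.Simple
import Groth.Agent.RootSys.Facts

/-!
# The first level of a filtration of a product of positive root groups
-/

set_option autoImplicit false
set_option linter.style.haveILetI false
set_option linter.unusedSectionVars false
set_option backward.isDefEq.respectTransparency false
set_option maxHeartbeats 1000000
set_option synthInstance.maxHeartbeats 400000

universe u

open CategoryTheory CategoryTheory.Limits MonoidalCategory CartesianMonoidalCategory AlgebraicGeometry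
open Groth.Agent.GaPts
open Groth.Agent.RankOne (eq_ptOf ptOf_add comp_ptOf)
open scoped MonObj

noncomputable section

attribute [-instance] CategoryTheory.Hom.commGroup

namespace SplitFib

open SplitCell

section Funct

variable {M : Type} [AddCommGroup M] [Module.Free ℤ M] [Module.Finite ℤ M]

/-- A functional positive on finitely many positive elements of an ordered lattice. -/
theorem exists_order_functional [LinearOrder M] [IsOrderedAddMonoid M] :
    ∀ l : List M, (∀ x ∈ l, 0 < x) → ∃ g : M →ₗ[ℤ] ℤ, ∀ x ∈ l, 0 < g x := by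
  suffices h : ∀ (n : ℕ) (l : List M), l.length = n → (∀ x ∈ l, 0 < x) → ∃ g : M →ₗ[ℤ] ℤ, ∀ x ∈ l, 0 < g x from
    fun l hl => h _ l rfl hl
  intro n
  induction n using Nat.strong_induction_on with
  | _ n ih =>
  rintro (_ | ⟨w, l⟩) hn hl
  · exact ⟨0, by simp⟩
  rcases l with _ | ⟨v₀, l'⟩
  · have hw : w ≠ 0 := (hl w (by simp)).ne'
    obtain ⟨g, hg⟩ := exists_pos_functional (fun _ : Unit => w) (linearIndependent_unique_iff.2 hw)
    exact ⟨g, fun x hx => by rw [List.mem_singleton] at hx; exact hx ▸ hg ()⟩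
  generalize hL : v₀ :: l' = l at hn hl
  obtain ⟨f, hf⟩ := ih l.length (by rw [← hn, List.length_cons]; omega) l rfl fun x hx =>
    hl x (List.mem_cons_of_mem _ hx)
  by_cases hfw : 0 < f w
  · exact ⟨f, fun x hx => (List.mem_cons.1 hx).elim (fun h => h ▸ hfw) (hf x)⟩
  let u : M → M := fun x => (-f w) • x + f x • w
  have hu : ∀ x ∈ l.map u, 0 < x := by
    intro x hx
    obtain ⟨y, hy, rfl⟩ := List.mem_map.1 hx
    exact add_pos_of_nonneg_of_pos (zsmul_nonneg (hl y (List.mem_cons_of_mem _ hy)).le (by omega))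
      (zsmul_pos (hl w List.mem_cons_self) (hf y hy))
  obtain ⟨g, hg⟩ := ih l.length (by rw [← hn, List.length_cons]; omega) (l.map u) (by simp) hu
  have hgv : ∀ y ∈ l, 0 < -f w * g y + f y * g w := fun y hy => by
    have := hg (u y) (List.mem_map.2 ⟨y, hy, rfl⟩)
    simp only [u, map_add, map_zsmul, smul_eq_mul] at this
    exact this
  by_cases hf0 : f w = 0
  · have hgw : 0 < g w := by
      have h := hgv v₀ (hL ▸ List.mem_cons_self)
      rw [hf0, neg_zero, zero_mul, zero_add] at h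
      exact (mul_pos_iff_of_pos_left (hf v₀ (hL ▸ List.mem_cons_self))).1 h
    obtain ⟨N, hN⟩ : ∃ N : ℕ, ∀ y ∈ l, -g y < (N : ℤ) := by
      refine ⟨(l.map fun y => (-g y).toNat).sum + 1, fun y hy => ?_⟩
      have := List.single_le_sum (fun x _ => Nat.zero_le x) _ (List.mem_map.2 ⟨y, hy, rfl⟩ :
        (-g y).toNat ∈ l.map fun y => (-g y).toNat)
      omega
    refine ⟨g + (N : ℤ) • f, fun x hx => ?_⟩
    rcases List.mem_cons.1 hx with rfl | hx
    · simp [hf0, hgw]
    · have h1 := hf x hx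
      have h2 := hN x hx
      simp only [LinearMap.add_apply, LinearMap.smul_apply, smul_eq_mul]
      nlinarith
  obtain ⟨N, hN⟩ : ∃ N : ℕ, ∀ y ∈ l, f y < (N : ℤ) := by
    refine ⟨(l.map fun y => (f y).toNat).sum + 1, fun y hy => ?_⟩
    have := List.single_le_sum (fun x _ => Nat.zero_le x) _ (List.mem_map.2 ⟨y, hy, rfl⟩ :
      (f y).toNat ∈ l.map fun y => (f y).toNat)
    omega
  refine ⟨(-f w * (N : ℤ)) • g + ((N : ℤ) * g w - 1) • f, fun x hx => ?_⟩
  rcases List.mem_cons.1 hx with rfl | hx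
  · simp only [LinearMap.add_apply, LinearMap.smul_apply, smul_eq_mul]
    linarith [show (-f x * (N : ℤ)) * g x + ((N : ℤ) * g x - 1) * f x = -f x by ring,
      show 0 < -f x by omega]
  · have h1 := hgv x hx
    have h2 := hN x hx
    have h3 : (N : ℤ) * 1 ≤ (N : ℤ) * (-f w * g x + f x * g w) :=
      mul_le_mul_of_nonneg_left (by omega) (Int.natCast_nonneg N)
    simp only [LinearMap.add_apply, LinearMap.smul_apply, smul_eq_mul]
    nlinarith

end Funct

variable {S : Scheme.{u}} {G : Over S} [GrpObj G] {D : Red.SplitRed G}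

/-- A subset of a saturated set cut out by a threshold is saturated. -/
theorem isSatur_of_closed (b : Sides D.P) {Ψ : Set D.idx} (hcl : RootD.IsClosedSub D.P Ψ) {f : D.M →ₗ[ℤ] ℤ}
    (hf : ∀ i ∈ Ψ, 0 < f (D.P.root i)) (c : ℤ) {l : ℕ} {e : Fin l → D.idx}
    (he : RedSub.Enumerates {i | i ∈ Ψ ∧ c ≤ f (D.P.root i)} e) : IsSatur D e := by
  intro k d hd
  have hmem : ∀ i, e i ∈ Ψ ∧ c ≤ f (D.P.root (e i)) := fun i => he.2.subset (Set.mem_range_self i)
  rw [he.2]
  refine ⟨(RootBasicLib.isClosedSub_iff_natSpan D.P Ψ).1 hcl k ?_, ?_⟩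
  · rw [hd]
    exact sum_mem fun i _ => by
      rw [natCast_zsmul]
      exact nsmul_mem (RootSysLib.root_mem_natSpan (S := Ψ) (i := e i) (hmem i).1) _
  · obtain ⟨i, hi⟩ : ∃ i, d i ≠ 0 := by
      by_contra hno
      push Not at hno
      exact D.P.ne_zero k (by simp [hd, hno])
    have h0 : ∀ j, 0 ≤ (d j : ℤ) * f (D.P.root (e j)) := fun j =>
      mul_nonneg (Int.natCast_nonneg _) (hf _ (hmem j).1).le
    have h1 := Finset.single_le_sum (fun j _ => h0 j) (Finset.mem_univ i)
    have h2 := congrArg f hd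
    simp only [map_sum, map_zsmul, smul_eq_mul] at h2
    have h3 := hf _ (hmem i).1
    have h4 := (hmem i).2
    have h5 : 1 * f (D.P.root (e i)) ≤ (d i : ℤ) * f (D.P.root (e i)) :=
      mul_le_mul_of_nonneg_right (by omega) h3.le
    omega

theorem commute_ga {X : Over S} (x y : X ⟶ Red.Ga S) : x * y = y * x := by
  rw [eq_ptOf x rfl, eq_ptOf y rfl, ← ptOf_add, ← ptOf_add, add_comm]

theorem ptOf_zero' {X : Over S} : (ptOf (0 : Γ(X.left, ⊤)) : X ⟶ Red.Ga S) = 1 := by
  have h : Red.gaFn (1 : X ⟶ Red.Ga S) = 0 := by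
    have h1 := gaFn_mul (1 : X ⟶ Red.Ga S) 1
    rw [_root_.one_mul, left_eq_add] at h1
    exact h1
  exact (eq_ptOf _ h).symm

/-- A product over an appended list. -/
theorem rprod_append {l l' : ℕ} (e : Fin l → D.idx) (e' : Fin l' → D.idx) {X : Over S}
    (x : X ⟶ RedSub.pow (Red.Ga S) (l + l')) :
    x ≫ rprod D (Fin.append e e') = ((tup fun k => x ≫ prj S (Fin.castAdd l' k)) ≫ rprod D e) *
      ((tup fun k => x ≫ prj S (Fin.natAdd l k)) ≫ rprod D e') := by
  rw [prodMap_eq, prodMap_eq, prodMap_eq,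
    show (fun k => x ≫ prj S k ≫ D.u (Fin.append e e' k)) = Fin.append
      (fun k => x ≫ prj S (Fin.castAdd l' k) ≫ D.u (e k)) (fun k => x ≫ prj S (Fin.natAdd l k) ≫ D.u (e' k)) from
      funext fun k => Fin.addCases (fun i => by simp) (fun i => by simp) k,
    List.ofFn_fin_append, List.prod_append]
  simp only [← Category.assoc (f := tup _), tup_prj]
  simp only [Category.assoc]

theorem rprod_eq_one {l : ℕ} (e : Fin l → D.idx) {X : Over S} (x : X ⟶ RedSub.pow (Red.Ga S) l)
    (h : ∀ k, x ≫ prj S k = 1) : x ≫ rprod D e = 1 := by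
  rw [prodMap_eq]
  refine List.prod_eq_one fun p hp => ?_
  obtain ⟨k, rfl⟩ := List.mem_ofFn.1 hp
  haveI := isMonHom_u D (e k)
  rw [← Category.assoc, h, MonObj.one_comp]

/-- A product with one factor. -/
theorem prod_ofFn_single {M : Type*} [Monoid M] {n : ℕ} (g : Fin n → M) (i : Fin n) (h : ∀ k, k ≠ i → g k = 1) :
    (List.ofFn g).prod = g i := by
  induction n with
  | zero => exact i.elim0
  | succ n ih =>
    rw [List.ofFn_succ, List.prod_cons]
    induction i using Fin.cases with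
    | zero => rw [List.prod_eq_one fun x hx => by
        obtain ⟨k, rfl⟩ := List.mem_ofFn.1 hx
        exact h _ (Fin.succ_ne_zero k), _root_.mul_one]
    | succ j => rw [h 0 (Fin.succ_ne_zero j).symm, _root_.one_mul,
        ih (fun k => g k.succ) j fun k hk => h _ fun e => hk (Fin.succ_injective _ e)]

/-- Two powers of `𝔾_a` together are a power. -/
def powSplit (l l' : ℕ) : RedSub.pow (Red.Ga S) (l + l') ≅ RedSub.pow (Red.Ga S) l ⊗ RedSub.pow (Red.Ga S) l' where
  hom := lift (tup fun k => prj S (Fin.castAdd l' k)) (tup fun k => prj S (Fin.natAdd l k))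
  inv := tup (Fin.append (fun k => fst _ _ ≫ prj S k) fun k => snd _ _ ≫ prj S k)
  hom_inv_id := pow_ext fun k => by
    rw [Category.assoc, tup_prj, Category.id_comp]
    refine Fin.addCases (fun i => ?_) (fun i => ?_) k
    · rw [Fin.append_left, lift_fst_assoc, tup_prj]
    · rw [Fin.append_right, lift_snd_assoc, tup_prj]
  inv_hom_id := by
    rw [comp_lift, comp_tup, comp_tup]
    refine CartesianMonoidalCategory.hom_ext _ _ ?_ ?_
    · rw [lift_fst, Category.id_comp]
      exact pow_ext fun k => by rw [tup_prj, tup_prj, Fin.append_left]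
    · rw [lift_snd, Category.id_comp]
      exact pow_ext fun k => by rw [tup_prj, tup_prj, Fin.append_right]

theorem powSplit_rprod {l l' : ℕ} (e : Fin l → D.idx) (e' : Fin l' → D.idx) :
    (powSplit l l').inv ≫ rprod D (Fin.append e e') = (fst _ _ ≫ rprod D e) * (snd _ _ ≫ rprod D e') := by
  rw [rprod_append]
  congr 2
  · exact pow_ext fun k => by rw [tup_prj, powSplit, tup_prj, Fin.append_left]
  · exact pow_ext fun k => by rw [tup_prj, powSplit, tup_prj, Fin.append_right]

variable {b : Sides D.P} {l l' : ℕ} {e : Fin l → D.idx} {e' : Fin l' → D.idx}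
  (hs : IsSatur D (Fin.append e e')) (he : Function.Injective (Fin.append e e'))
  (hp : ∀ k, Fin.append e e' k ∈ b.pos) {f : D.M →ₗ[ℤ] ℤ} (hf : ∀ i ∈ b.pos, 0 < f (D.P.root i))
  [GrpObj (RedSub.pow (Red.Ga S) (l + l'))] [IsMonHom (rprod D (Fin.append e e'))]
  (k₀ : Fin l) (hmin : ∀ k, f (D.P.root (e k₀)) ≤ f (D.P.root (Fin.append e e' k)))
include hs he hp hf hmin

/-- A coordinate of least weight is additive. -/
theorem coord_mul {X : Over S} (x y : X ⟶ RedSub.pow (Red.Ga S) (l + l')) :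
    (x * y) ≫ prj S (Fin.castAdd l' k₀) =
      (x ≫ prj S (Fin.castAdd l' k₀)) * (y ≫ prj S (Fin.castAdd l' k₀)) :=
  prj_mul b hs he hp f hf _ x y (fun k hk => absurd hk (not_lt.2 (by rw [Fin.append_left]; exact hmin k)))
    fun k hk => absurd hk (not_lt.2 (by rw [Fin.append_left]; exact hmin k))

theorem coord_one {X : Over S} :
    (1 : X ⟶ RedSub.pow (Red.Ga S) (l + l')) ≫ prj S (Fin.castAdd l' k₀) = 1 := by
  have h1 := congrArg Red.gaFn (coord_mul hs he hp hf k₀ hmin (1 : X ⟶ _) 1)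
  rw [_root_.one_mul, gaFn_mul, left_eq_add] at h1
  exact (eq_ptOf _ h1).trans ptOf_zero'

theorem coord_inv {X : Over S} (x : X ⟶ RedSub.pow (Red.Ga S) (l + l')) :
    (x⁻¹ ≫ prj S (Fin.castAdd l' k₀)) * (x ≫ prj S (Fin.castAdd l' k₀)) = 1 := by
  rw [← coord_mul hs he hp hf k₀ hmin, inv_mul_cancel, coord_one hs he hp hf k₀ hmin]

theorem coord_conj {X : Over S} (x y : X ⟶ RedSub.pow (Red.Ga S) (l + l')) :
    (x * y * x⁻¹) ≫ prj S (Fin.castAdd l' k₀) = y ≫ prj S (Fin.castAdd l' k₀) := by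
  rw [coord_mul hs he hp hf k₀ hmin, coord_mul hs he hp hf k₀ hmin, commute_ga (x ≫ _) (y ≫ _), _root_.mul_assoc,
    commute_ga (x ≫ _), coord_inv hs he hp hf k₀ hmin, _root_.mul_one]

theorem coord_comm {X : Over S} (x y : X ⟶ RedSub.pow (Red.Ga S) (l + l')) :
    (x * y * x⁻¹ * y⁻¹) ≫ prj S (Fin.castAdd l' k₀) = 1 := by
  rw [coord_mul hs he hp hf k₀ hmin, coord_conj hs he hp hf k₀ hmin, commute_ga, coord_inv hs he hp hf k₀ hmin]

end SplitFib

end
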