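import Groth.Agent.SplitFibLib.Cone

/-!
# The product of the torus and the positive root groups is a Borel subgroup
-/

set_option autoImplicit false
set_option linter.style.haveILetI false
set_option linter.unusedSectionVars false
set_option backward.isDefEq.respectTransparency false
set_option maxHeartbeats 1000000
set_option synthInstance.maxHeartbeats 400000

universe u

open CategoryTheory CategoryTheory.Limits MonoidalCategory CartesianMonoidalCategory AlgebraicGeometry WithConv
open scoped MonObj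
open CoactBr (sp)
open Groth.Agent.BorelLib

noncomputable section

attribute [-instance] CategoryTheory.Hom.commGroup

namespace SplitFib

attribute [local instance] pTop pTopTensor

open SplitCell

variable {S : Scheme.{u}} {G : Over S} [GrpObj G] {D : Red.SplitRed G} {K : Type u} [Field K] [IsAlgClosed K]
  (a : Spec (CommRingCat.of K) ⟶ S) {A : Type u} [CommRing A] [HopfAlgebra K A]
  (v : sp K A ≅ Red.bc a G) [IsMonHom v.hom] (b : Sides D.P)

/-- Positive roots are uniquely coordinated. -/
theorem uPe_injective {l : ℕ} {e : Fin l → D.idx} (he : Function.Injective e) (hp : ∀ i, e i ∈ b.pos) :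
    Function.Injective (uPe D a v e) := by
  haveI : ∀ k, IsMonHom ((fun k => D.u (e k)) k) := fun k => isMonHom_u D _
  haveI : ∀ k, Mono ((fun k => D.u (e k)) k) := fun k => mono_u D _
  haveI := isAffineHom_hom D
  obtain ⟨f, hf, -⟩ := b.regular
  obtain ⟨g, hg⟩ := exists_injective_functional (fun k => D.P.root k) D.P.root.injective
  intro c c' h
  exact pe_injective a (hasWeights_coch D f e) (fun i => hf _ (hp i)) (hasWeights_coch D g e) (hg.comp he)
    ((ptG a v).injective h)

omit [IsAlgClosed K] in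
/-- The extreme root can be removed from a saturated set. -/
theorem exists_remove {l : ℕ} {e : Fin (l + 1) → D.idx} (hs : IsSatur D e) (he : Function.Injective e)
    (hp : ∀ i, e i ∈ b.pos) : ∃ i₀, IsSatur D (e ∘ Fin.succAbove i₀) := by
  obtain ⟨f, hf, -⟩ := b.regular
  obtain ⟨i₀, -, hmin⟩ := Finset.univ.exists_min_image (fun i => f (D.P.root (e i))) Finset.univ_nonempty
  refine ⟨i₀, fun k d hd => ?_⟩
  have hmem : k ∈ Set.range e := hs k (Fin.insertNth i₀ 0 d) (by
    rw [Fin.sum_univ_succAbove _ i₀]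
    simp only [Fin.insertNth_apply_same, Nat.cast_zero, zero_smul, zero_add, Fin.insertNth_apply_succAbove]
    exact hd)
  obtain ⟨i, rfl⟩ := hmem
  rcases Fin.eq_self_or_eq_succAbove i₀ i with rfl | ⟨j, rfl⟩
  swap
  · exact ⟨j, rfl⟩
  have h := congrArg f hd
  simp only [map_sum, map_zsmul, smul_eq_mul, Function.comp_apply] at h
  have hle : ∀ j, (d j : ℤ) * f (D.P.root (e i)) ≤ (d j : ℤ) * f (D.P.root (e (Fin.succAbove i j))) := fun j =>
    mul_le_mul_of_nonneg_left (hmin _ (Finset.mem_univ _)) (Int.natCast_nonneg _)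
  have hsum := Finset.sum_le_sum (s := Finset.univ) fun j _ => hle j
  rw [← h, ← Finset.sum_mul] at hsum
  have h0 := hf _ (hp i)
  have hd1 : (∑ j, (d j : ℤ)) ≤ 1 := le_of_mul_le_mul_right (by rw [_root_.one_mul]; exact hsum) h0
  obtain ⟨j, hj⟩ : ∃ j, d j ≠ 0 := by
    by_contra hno
    push Not at hno
    exact D.P.ne_zero (e i) (by simp [hd, hno])
  have hz : ∀ j', j' ≠ j → d j' = 0 := fun j' hj' => by
    have := Finset.sum_le_sum_of_subset_of_nonneg (f := fun j => (d j : ℤ)) (Finset.subset_univ {j, j'})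
      fun _ _ _ => Int.natCast_nonneg _
    rw [Finset.sum_pair hj'.symm] at this
    omega
  have hdj : d j = 1 := by
    have := Finset.single_le_sum (f := fun j => (d j : ℤ)) (fun _ _ => Int.natCast_nonneg _) (Finset.mem_univ j)
    omega
  rw [Finset.sum_eq_single j (fun j' _ h => by simp [hz j' h]) (by simp), hdj, Nat.cast_one, one_smul] at hd
  exact absurd (he (D.P.root.injective hd)).symm (Fin.succAbove_ne i j)

variable [Algebra.FiniteType K A] [_root_.IsReduced A] [IsAffine (Red.bc a G).left] [Smooth (Red.bc a G).hom]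
variable (hconn : _root_.IsPreconnected (Set.univ : Set (Pt K A))) (hred : IsRedPts K A)
  (hT : IsMaxTor ⊤ (Tsub D a v))
include hconn hred hT

/-- **A Borel subgroup containing the positive root groups meets the negative ones trivially.** -/
theorem coord_eq_zero {B : Subgroup (Pt K A)} (hB : IsBor ⊤ B) (hTB : Tsub D a v ≤ B)
    (hUB : rootSub D a v b.pos ≤ B) : ∀ (l : ℕ) (e : Fin l → D.idx), IsSatur D e → Function.Injective e →
      (∀ i, e i ∈ b.neg) → ∀ c, uPe D a v e c ∈ B → c = 0 := by
  intro l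
  induction l with
  | zero => intro e _ _ _ c _; exact funext fun i => i.elim0
  | succ l ih =>
    intro e hs he hn c hc
    obtain ⟨i₀, hs'⟩ := exists_remove (flipSides b) hs he hn
    set e' := e ∘ Fin.succAbove i₀ with he'
    have hi' : Function.Injective e' := he.comp Fin.succAbove_right_injective
    have hn' : ∀ j, e' j ∈ b.neg := fun j => hn _
    let e'' : Fin (l + 1) → D.idx := Fin.cons (e i₀) e'
    have hrange : Set.range e'' = Set.range e := by
      rw [Fin.range_cons, he', Set.range_comp, Fin.range_succAbove, ← Set.image_insert_eq]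
      simp [Set.insert_eq, Set.union_compl_self]
    have hi'' : Function.Injective e'' := Fin.cons_injective_iff.2
      ⟨fun ⟨j, hj⟩ => Fin.succAbove_ne i₀ j (he hj), hi'⟩
    have hn'' : ∀ i, e'' i ∈ b.neg := Fin.cases (hn i₀) hn'
    have hs'' : IsSatur D e'' := by
      intro k d hd
      rw [hrange]
      refine hs k (Fin.insertNth i₀ (d 0) fun j => d j.succ) ?_
      rw [Fin.sum_univ_succ] at hd
      rw [Fin.sum_univ_succAbove _ i₀, hd]
      simp [e'', he']
    have hU := (rootSub_props D a v (flipSides b) hs'' hi'' hn'').1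
    have hU' := (rootSub_props D a v (flipSides b) hs' hi' hn').1
    obtain ⟨c'', hc''⟩ := (hU _).1 (uPe_mem_rootSub D a v (s := Set.range e'') (e := e) (c := c)
      fun i _ => hrange.symm ▸ Set.mem_range_self i)
    suffices h0 : c'' = 0 by
      rw [h0, uPe_zero, ← uPe_zero D a v e] at hc''
      exact uPe_injective a v (flipSides b) he hn hc''
    rw [hc''] at hc
    set q' := uPe D a v e' fun j => c'' j.succ with hq'
    have hq : uPe D a v e'' c'' = uEl D a v (e i₀) (c'' 0) * q' := uPe_cons D a v _ _ _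
    obtain ⟨L, hL⟩ := exists_line D (e i₀)
    have hqmem : q' ∈ rootSub D a v (Set.range e') := (hU' _).2 ⟨_, rfl⟩
    have hfix : ∀ f : D.M →ₗ[ℤ] ℤ, f L.χ = 0 → ∀ z : Kˣ,
        torusHom D a v (tc D a f z) * q' * (torusHom D a v (tc D a f z))⁻¹ = q' := by
      intro f hf z
      set τ := torusHom D a v (tc D a f z) with hτ
      have hk : τ * uEl D a v (e i₀) (c'' 0) * τ⁻¹ = uEl D a v (e i₀) (c'' 0) := by
        rw [hτ, conj_uEl, ch_cochT, show D.P.root (e i₀) = L.co (D.P.root (e i₀)) • L.χ from hL, map_zsmul, hf,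
          smul_zero, zpow_zero, Units.val_one, _root_.one_mul]
      have h1 : q'⁻¹ * (τ * q' * τ⁻¹) ∈ B := by
        rw [show q'⁻¹ * (τ * q' * τ⁻¹) = (uPe D a v e'' c'')⁻¹ * (τ * uPe D a v e'' c'' * τ⁻¹) by
          rw [hq, show τ * (uEl D a v (e i₀) (c'' 0) * q') * τ⁻¹ =
            (τ * uEl D a v (e i₀) (c'' 0) * τ⁻¹) * (τ * q' * τ⁻¹) by group, hk]
          group]
        exact B.mul_mem (B.inv_mem hc) (B.mul_mem (B.mul_mem (hTB ⟨_, rfl⟩) hc) (B.inv_mem (hTB ⟨_, rfl⟩)))
      have hconj : τ * q' * τ⁻¹ ∈ rootSub D a v (Set.range e') := by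
        rw [hτ, hq', conj_uPe]
        exact (hU' _).2 ⟨_, rfl⟩
      obtain ⟨c₃, hc₃⟩ := (hU' _).1 ((rootSub D a v _).mul_mem ((rootSub D a v _).inv_mem hqmem) hconj)
      rw [hc₃] at h1
      rw [ih e' hs' hi' hn' c₃ h1, uPe_zero, inv_mul_eq_one] at hc₃
      exact hc₃.symm
    have hq1 : ∀ j : Fin l, c'' j.succ = 0 := by
      intro j
      by_contra hj
      have hline : e' j ∈ L.roots := by
        show D.P.root (e' j) = L.co (D.P.root (e' j)) • L.χ
        let Bs := Module.finBasis ℤ D.M
        refine Bs.ext_elem fun i => ?_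
        let f : D.M →ₗ[ℤ] ℤ := Bs.coord i - Bs.coord i L.χ • L.co
        have hf : f L.χ = 0 := by simp [f, L.co_χ]
        have h0 : f (D.P.root (e' j)) = 0 := by
          by_contra hne
          obtain ⟨z, hz⟩ := exists_units_zpow_ne_one K hne
          have h2 := hfix f hf z
          rw [hq', conj_uPe] at h2
          have h3 := congrFun (uPe_injective a v (flipSides b) hi' hn' h2) j
          simp only [ch_cochT] at h3
          exact hz (Units.ext (mul_right_cancel₀ hj (h3.trans (_root_.one_mul _).symm)))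
        rw [map_zsmul, Finsupp.smul_apply, smul_eq_mul]
        simp only [f, LinearMap.sub_apply, LinearMap.smul_apply, Module.Basis.coord_apply, smul_eq_mul,
          sub_eq_zero] at h0
        rw [h0, _root_.mul_comm]
      exact Fin.succAbove_ne i₀ j
        (he (eq_of_mem_line_neg a v L b hconn hred hT ⟨hline, hn' j⟩ ⟨hL, hn i₀⟩))
    have hq0 : q' = 1 := by
      rw [hq', show (fun j : Fin l => c'' j.succ) = 0 from funext hq1, uPe_zero]
    rw [hq, hq0, _root_.mul_one] at hc
    have hbot := eq_one_of_mem_bor a v L b hconn hred hT hB hTB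
      ((rootSub_mono D a v Set.inter_subset_right).trans hUB)
    have h1 : uEl D a v (e i₀) (c'' 0) = 1 := by
      rw [← Subgroup.mem_bot, ← hbot]
      exact ⟨hc, uEl_mem_rootSub D a v (s := L.roots ∩ b.neg) ⟨hL, hn i₀⟩ _⟩
    refine uPe_injective a v (flipSides b) hi'' hn'' ?_
    rw [hq, hq0, h1, _root_.mul_one, uPe_zero]

/-- **`T U⁺` is a Borel subgroup.** -/
theorem isBor_bplus {m : ℕ} {epos : Fin m → D.idx} (hpos : RedSub.Enumerates b.pos epos) :
    ∃ B : Subgroup (Pt K A), IsBor ⊤ B ∧ ∀ x, x ∈ B ↔ ∃ t c, x = torusHom D a v t * uPe D a v epos c := by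
  obtain ⟨n, m', eneg, epos', hneg, -⟩ := exists_enum D b
  obtain ⟨B, hB, hTB, hUB⟩ := exists_bor_pos a v b hconn hT hpos
  obtain ⟨B₀, hB₀, -, -⟩ := exists_bplus D a v b hpos hT.tor
  suffices h : B = B₀ by exact ⟨B, hB, h ▸ hB₀⟩
  have hle : B₀ ≤ B := fun x hx => by
    obtain ⟨t, c, rfl⟩ := (hB₀ x).1 hx
    exact B.mul_mem (hTB ⟨t, rfl⟩) (hUB (uPe_mem_rootSub D a v fun k _ => hpos.2.subset (Set.mem_range_self k)))
  have hcell : ∀ x ∈ B, x ∈ cellPts D a v eneg epos → x ∈ B₀ := by
    rintro _ hx ⟨y, t, c, rfl⟩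
    have hy : uPe D a v eneg y ∈ B :=
      (B.mul_mem_cancel_right (hle ((hB₀ _).2 ⟨t, c, rfl⟩))).1 hx
    have hs : IsSatur D eneg := isSatur_pos D (flipSides b) hneg
    rw [coord_eq_zero a v b hconn hred hT hB hTB hUB n eneg hs hneg.1
      (fun i => hneg.2.subset (Set.mem_range_self i)) y hy, uPe_zero, _root_.one_mul]
    exact (hB₀ _).2 ⟨t, c, rfl⟩
  refine le_antisymm (fun g hg => ?_) hle
  have hirr := isIrreducible_of_connected hB.closed hB.conn
  have hopen := isOpen_cellPts D a v b hneg hpos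
  obtain ⟨x, hx, hx1, hx2⟩ := hirr.2 (cellPts D a v eneg epos) ((fun y => g⁻¹ * y) ⁻¹' cellPts D a v eneg epos) hopen
    (hopen.preimage (Groth.Agent.BorelLib.continuous_const_mul g⁻¹)) ⟨1, B.one_mem, one_mem_cellPts D a v⟩
    ⟨g, hg, by show g⁻¹ * g ∈ cellPts D a v eneg epos; rw [inv_mul_cancel]; exact one_mem_cellPts D a v⟩
  rw [show g = x * (g⁻¹ * x)⁻¹ by group]
  exact B₀.mul_mem (hcell x hx hx1) (B₀.inv_mem (hcell _ (B.mul_mem (B.inv_mem hg) hx) hx2))

end SplitFib

end
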