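import Groth.Agent.RpushLib.FlatPull
import Groth.Agent.QuotSchLib.PullFlat
import Groth.Agent.FlatRankLib.Basic
import Groth.Agent.CohCmpLib.FrameTools
import Groth.Agent.FinLFAnnLib.Main
import Groth.Agent.RelFlatLib.Basic
import Groth.Agent.CohCmpLib.FibreStalk
import Mathlib.RingTheory.LocalRing.Module

/-!
# Maps to finite locally free modules which are injective on all fibres
-/

set_option autoImplicit false
set_option backward.isDefEq.respectTransparency false
set_option backward.isDefEq.respectTransparency.types false
universe u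

open CategoryTheory CategoryTheory.Limits AlgebraicGeometry TopologicalSpace Opposite
open scoped TensorProduct

noncomputable section

namespace SplitFibLib

/-- Over a local ring a map to a free module injective on the closed fibre splits. -/
theorem local_split {R M N Q : Type*} [CommRing R] [IsLocalRing R] [AddCommGroup M] [Module R M]
    [AddCommGroup N] [Module R N] [AddCommGroup Q] [Module R Q] [Module.Finite R M] [Module.Finite R N]
    [Module.Free R N] (u : M →ₗ[R] N) (g : N →ₗ[R] Q) (hex : Function.Exact u g) (hg : Function.Surjective g)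
    (hu : Function.Injective (u.lTensor (IsLocalRing.ResidueField R))) :
    Function.Injective u ∧ Module.Free R M ∧ Module.Free R Q ∧
      Module.finrank R N = Module.finrank R M + Module.finrank R Q := by
  obtain ⟨l, hl⟩ := (IsLocalRing.split_injective_iff_lTensor_residueField_injective u).2 hu
  obtain ⟨e, he1, he2⟩ := hex.splitInjectiveEquiv hg ⟨l, hl⟩
  haveI : Module.Projective R (M × Q) := Module.Projective.of_equiv e
  haveI : Module.Finite R Q := Module.Finite.of_surjective g hg
  haveI : Module.Projective R M := Module.Projective.of_split (LinearMap.inl R M Q) (LinearMap.fst R M Q)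
    (by ext; simp)
  haveI : Module.Projective R Q := Module.Projective.of_split (LinearMap.inr R M Q) (LinearMap.snd R M Q)
    (by ext; simp)
  haveI : Module.Free R M := Module.free_of_flat_of_isLocalRing
  haveI : Module.Free R Q := Module.free_of_flat_of_isLocalRing
  refine ⟨Function.LeftInverse.injective (g := l) (LinearMap.congr_fun hl), inferInstance, inferInstance, ?_⟩
  rw [e.finrank_eq, Module.finrank_prod]

/-- Base change along a surjection onto a field is base change to the residue field. -/
theorem residue_injective_of_field {R S : Type u} [CommRing R] [IsLocalRing R] [CommRing S] (φ : R →+* S)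
    (hφ : Function.Surjective φ) (hS : IsField S) {M N : ModuleCat.{u} R} (f : M ⟶ N)
    (h : Mono ((ModuleCat.extendScalars.{u, u, u} φ).map f)) :
    Function.Injective (f.hom.lTensor (IsLocalRing.ResidueField R)) := by
  letI := hS.toField
  algebraize [φ]
  have hinj : Function.Injective (f.hom.lTensor S) := (ModuleCat.mono_iff_injective _).mp h
  have hk : RingHom.ker (algebraMap R S) = IsLocalRing.maximalIdeal R :=
    IsLocalRing.eq_maximalIdeal (RingHom.ker_isMaximal_of_surjective _ hφ)
  let e : IsLocalRing.ResidueField R ≃ₐ[R] S :=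
    (Ideal.quotientEquivAlgOfEq R hk.symm).trans (Ideal.quotientKerAlgEquivOfSurjective (f := Algebra.ofId R S) hφ)
  have hcomm : ∀ z, TensorProduct.congr e.toLinearEquiv (LinearEquiv.refl R N) (f.hom.lTensor _ z) =
      f.hom.lTensor S (TensorProduct.congr e.toLinearEquiv (LinearEquiv.refl R M) z) := fun z => by
    induction z using TensorProduct.induction_on with
    | zero => simp
    | add a b ha hb => simp only [map_add, ha, hb]
    | tmul a b => simp
  intro a b hab
  apply (TensorProduct.congr e.toLinearEquiv (LinearEquiv.refl R M)).injective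
  apply hinj
  rw [← hcomm, ← hcomm, hab]

variable {S : Scheme.{u}} {U E : S.Modules} (ι : U ⟶ E)

/-- Injectivity on the fibre at `s` gives injectivity of the stalk map after tensoring with the residue field. -/
theorem residue_injective (s : S) (h : Mono ((Scheme.Modules.pullback (S.fromSpecResidueField s)).map ι)) :
    Function.Injective (((DerSch.stalkFunctor S s).map ι).hom.lTensor (IsLocalRing.ResidueField (S.presheaf.stalk s))) := by
  let g := S.fromSpecResidueField s
  let y : Spec (S.residueField s) := IsLocalRing.closedPoint (S.residueField s)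
  have hy : g y = s := S.fromSpecResidueField_apply s y
  suffices hgy : Function.Injective (((DerSch.stalkFunctor S (g y)).map ι).hom.lTensor
      (IsLocalRing.ResidueField (S.presheaf.stalk (g y)))) by
    rw [hy] at hgy; exact hgy
  have h1 : Mono ((DerSch.stalkFunctor _ y).map ((Scheme.Modules.pullback g).map ι)) :=
    CategoryTheory.preserves_mono_of_preservesLimit _ _
  have h2 : Mono ((Scheme.Modules.pullback g ⋙ DerSch.stalkFunctor _ y).map ι) := h1
  rw [FlatLib.mono_map_iff_of_natIso (KFlatLib.stalkPullIso g y)] at h2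
  refine residue_injective_of_field (g.stalkMap y).hom (g.stalkMap_surjective y) ?_ _ h2
  have hK : IsField (S.residueField s) := Semifield.toIsField (S.residueField s)
  have hb : Function.Bijective (algebraMap (S.residueField s) (Localization.AtPrime y.asIdeal)) :=
    hK.localization_map_bijective (M := y.asIdeal.primeCompl) fun h0 => h0 (y.asIdeal.zero_mem)
  exact MulEquiv.isField hK ((RingEquiv.ofBijective _ hb).trans
    (StructureSheaf.stalkIso (S.residueField s) y).toRingEquiv).symm.toMulEquiv

variable (hU : CohB1.IsFT U) (hE : FlatMod.IsFinLocFree E)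
  (h : ∀ s : S, Mono ((Scheme.Modules.pullback (S.fromSpecResidueField s)).map ι))

include hU hE h

theorem stalk_data (s : S) :
    Function.Injective ((DerSch.stalkFunctor S s).map ι).hom ∧
      Module.Free (S.presheaf.stalk s) ((DerSch.stalkFunctor S s).obj U) ∧
      Module.Free (S.presheaf.stalk s) ((DerSch.stalkFunctor S s).obj (cokernel ι)) ∧
      Module.finrank (S.presheaf.stalk s) ((DerSch.stalkFunctor S s).obj E) =
        Module.finrank (S.presheaf.stalk s) ((DerSch.stalkFunctor S s).obj U) +
          Module.finrank (S.presheaf.stalk s) ((DerSch.stalkFunctor S s).obj (cokernel ι)) := by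
  haveI : Module.Finite (S.presheaf.stalk s) ((DerSch.stalkFunctor S s).obj U) :=
    FlatRankLib.finite_stalk_of_isFT hU s
  haveI : Module.Finite (S.presheaf.stalk s) ((DerSch.stalkFunctor S s).obj E) := CohCmpLib.finite_stalk hE s
  haveI : Module.Free (S.presheaf.stalk s) ((DerSch.stalkFunctor S s).obj E) :=
    MiscFlat6.free_stalk_of_isFinLocFree hE s
  have hc : (ShortComplex.mk ι (cokernel.π ι) (cokernel.condition ι)).Exact :=
    ShortComplex.exact_of_g_is_cokernel _ (cokernelIsCokernel _)
  exact local_split _ ((DerSch.stalkFunctor S s).map (cokernel.π ι)).hom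
    ((ShortComplex.ShortExact.moduleCat_exact_iff_function_exact _).1 (hc.map (DerSch.stalkFunctor S s)))
    ((ModuleCat.epi_iff_surjective _).1 inferInstance) (residue_injective ι s (h s))

theorem mono_of_fibres : Mono ι :=
  RpushLib.mono_of_stalks ι fun s => (ModuleCat.mono_iff_injective _).2 (stalk_data ι hU hE h s).1

theorem finLocFree_cokernel : FlatMod.IsFinLocFree (cokernel ι) ∧ FlatMod.IsFinLocFree U := by
  haveI := FinLFAnn.isQCoh_of_isFinLocFree hE
  haveI : CohB1.IsFP E := (MiscFlat6.isFlat_and_isFP_iff.2 hE).2
  have hEft : CohB1.IsFT E := inferInstance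
  have hQ : CohB1.IsFT (cokernel ι) := QCohLib.isFT_of_epi (cokernel.π ι) hEft
  have hfree : ∀ {M : S.Modules}, (∀ x : S, Module.Free (S.presheaf.stalk x) ((DerSch.stalkFunctor S x).obj M)) →
      FlatMod.IsFlat M := fun {M} hM x => by
    haveI : Module.Free (S.presheaf.stalk x) (M.presheaf.stalk x) := hM x
    show Module.Flat (S.presheaf.stalk x) (M.presheaf.stalk x)
    infer_instance
  have hUf := hfree (M := U) fun x => (stalk_data ι hU hE h x).2.1
  have hQf := hfree (M := cokernel ι) fun x => (stalk_data ι hU hE h x).2.2.1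
  have hrk : ∀ {M : S.Modules}, CohB1.IsFT M → FlatMod.IsFlat M → ∀ x,
      FlatRankLib.rk M x = Module.finrank (S.presheaf.stalk x) ((DerSch.stalkFunctor S x).obj M) :=
    fun {M} hM hMf x => by
      haveI := FlatRankLib.free_stalk hM hMf x
      exact MiscFlat6.finrank_fibre
  have hconst : ∀ x : S, ∃ V : S.Opens, x ∈ V ∧ ∀ y ∈ V, FlatRankLib.rk U y = FlatRankLib.rk U x ∧
      FlatRankLib.rk (cokernel ι) y = FlatRankLib.rk (cokernel ι) x := fun x => by
    obtain ⟨V₁, h₁, h₁'⟩ := FlatRankLib.rk_le_nhd hU hUf x
    obtain ⟨V₂, h₂, h₂'⟩ := FlatRankLib.rk_le_nhd hQ hQf x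
    obtain ⟨V₃, n, e, h₃, he⟩ := ProjFormLib.exists_frame hE x
    refine ⟨V₁ ⊓ V₂ ⊓ V₃, ⟨⟨h₁, h₂⟩, h₃⟩, fun y hy => ?_⟩
    have hs : ∀ z (hz : z ∈ V₃), FlatRankLib.rk U z + FlatRankLib.rk (cokernel ι) z = n := fun z hz => by
      rw [hrk hU hUf, hrk hQ hQf, ← (stalk_data ι hU hE h z).2.2.2]
      exact MiscFlat6.finrank_of_frame he hz
    have a := hs x h₃
    have b := hs y hy.2
    have c := h₁' y hy.1.1
    have d := h₂' y hy.1.2
    omega
  exact ⟨CohCmpLib.isFinLocFree_of_frames fun x => MiscFlat6.exists_frame_of_isFT_of_free hQ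
      (fun z => (stalk_data ι hU hE h z).2.2.1) ((IsLocallyConstant.iff_exists_open _).mpr fun z => by
        obtain ⟨V, hz, hV⟩ := hconst z
        exact ⟨V, V.2, hz, fun y hy => (hV y hy).2⟩) x,
    CohCmpLib.isFinLocFree_of_frames fun x => MiscFlat6.exists_frame_of_isFT_of_free hU
      (fun z => (stalk_data ι hU hE h z).2.1) ((IsLocallyConstant.iff_exists_open _).mpr fun z => by
        obtain ⟨V, hz, hV⟩ := hconst z
        exact ⟨V, V.2, hz, fun y hy => (hV y hy).1⟩) x⟩

omit hU h in
/-- A mono with finite locally free cokernel stays mono after every pullback. -/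
theorem mono_pullback_of_finLocFree [Mono ι] (hQ : FlatMod.IsFinLocFree (cokernel ι)) {T : Scheme.{u}}
    (f : T ⟶ S) : Mono ((Scheme.Modules.pullback f).map ι) := by
  haveI := FinLFAnn.isQCoh_of_isFinLocFree hE
  haveI := FinLFAnn.isQCoh_of_isFinLocFree hQ
  haveI : Mono ((Scheme.Modules.pullback f).map (kernel.ι (cokernel.π ι))) :=
    QuotSchLib.mono_pullback_kernel (m := f) (r := 𝟙 T) (q := 𝟙 S) (h := f)
      (IsPullback.of_vert_isIso ⟨by simp⟩) (cokernel.π ι)
      ((Groth.Agent.RelFlatLib.isFlatOver_id_iff _).2 (MiscFlat6.isFlat_and_isFP_iff.2 hQ).1)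
  rw [← Abelian.image.fac ι, Functor.map_comp]
  haveI : IsIso (Abelian.factorThruImage ι) := isIso_of_mono_of_epi _
  exact mono_comp _ _

end SplitFibLib

end
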