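import Groth.Agent.SplitFibLib.Main
import Groth.Agent.ConsLib.ModLoci
import Groth.Agent.PerfLib.LocalLift
import Groth.Agent.FlatFunShLib.Basic

/-!
# Locally split monomorphisms are detected on points
-/

set_option autoImplicit false
set_option backward.isDefEq.respectTransparency false
set_option backward.isDefEq.respectTransparency.types false
universe u

open CategoryTheory CategoryTheory.Limits AlgebraicGeometry TopologicalSpace Opposite

noncomputable section

namespace SplitFibLib

variable {X : Scheme.{u}} {F V : X.Modules} (u : F ⟶ V)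

/-- `u` has a retraction after pullback along `j`. -/
structure Sp {W : Scheme.{u}} (j : W ⟶ X) : Prop where
  ex : ∃ r : (Scheme.Modules.pullback j).obj V ⟶ (Scheme.Modules.pullback j).obj F,
    (Scheme.Modules.pullback j).map u ≫ r = 𝟙 _

theorem sp_of_natIso {W : Scheme.{u}} {Φ Ψ : X.Modules ⥤ W.Modules} (e : Φ ≅ Ψ)
    (h : ∃ r : Φ.obj V ⟶ Φ.obj F, Φ.map u ≫ r = 𝟙 _) : ∃ r : Ψ.obj V ⟶ Ψ.obj F, Ψ.map u ≫ r = 𝟙 _ := by
  obtain ⟨r, hr⟩ := h
  refine ⟨e.inv.app V ≫ r ≫ e.hom.app F, ?_⟩
  rw [← Category.assoc, e.inv.naturality, Category.assoc, reassoc_of% hr, Iso.inv_hom_id_app]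

theorem Sp.comp {W W' : Scheme.{u}} {j : W ⟶ X} (h : Sp u j) (g : W' ⟶ W) : Sp u (g ≫ j) := by
  obtain ⟨r, hr⟩ := h.ex
  refine ⟨sp_of_natIso u (Scheme.Modules.pullbackComp g j) ⟨(Scheme.Modules.pullback g).map r, ?_⟩⟩
  change (Scheme.Modules.pullback g).map ((Scheme.Modules.pullback j).map u) ≫ _ = _
  rw [← Functor.map_comp, hr]
  exact (Scheme.Modules.pullback g).map_id _

theorem sp_comp_iff {W W' : Scheme.{u}} (g : W' ⟶ W) (j : W ⟶ X) :
    Sp u (g ≫ j) ↔ ∃ r, (Scheme.Modules.pullback g).map ((Scheme.Modules.pullback j).map u) ≫ r = 𝟙 _ :=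
  ⟨fun h => sp_of_natIso u (Scheme.Modules.pullbackComp g j).symm h.ex,
    fun h => ⟨sp_of_natIso u (Scheme.Modules.pullbackComp g j) h⟩⟩

theorem mono_comp_iff {W W' : Scheme.{u}} (g : W' ⟶ W) (j : W ⟶ X) :
    Mono ((Scheme.Modules.pullback (g ≫ j)).map u) ↔
      Mono ((Scheme.Modules.pullback g).map ((Scheme.Modules.pullback j).map u)) :=
  FlatLib.mono_map_iff_of_natIso (Scheme.Modules.pullbackComp g j).symm u

theorem Sp.mono {W : Scheme.{u}} {j : W ⟶ X} (h : Sp u j) : Mono ((Scheme.Modules.pullback j).map u) := by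
  obtain ⟨r, hr⟩ := h.ex
  exact mono_of_mono_fac hr

/-- Injectivity on residue fields does not see field extensions. -/
theorem mono_point_iff {W : Scheme.{u}} (h : W ⟶ X) (w : W) :
    Mono ((Scheme.Modules.pullback (W.fromSpecResidueField w ≫ h)).map u) ↔
      Mono ((Scheme.Modules.pullback (X.fromSpecResidueField (h w))).map u) := by
  rw [← Scheme.Hom.SpecMap_residueFieldMap_fromSpecResidueField h w, mono_comp_iff]
  haveI : Flat (Spec.map (h.residueFieldMap w)) := by
    rw [HasRingHomProperty.Spec_iff (P := @Flat)]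
    letI := (h.residueFieldMap w).hom.toAlgebra
    show Module.Flat _ _
    infer_instance
  constructor
  · intro hm
    exact FlatFunShLib.mono_of_cover _ fun y => ⟨_, Spec.map (h.residueFieldMap w),
      IsLocalRing.closedPoint _, inferInstance, Subsingleton.elim _ _, hm⟩
  · intro hm
    exact (RpushLib.preservesMonomorphisms_pullback (Spec.map (h.residueFieldMap w))).preserves _

/-- Locally split monomorphisms after pullback along `h` are those injective at every point. -/
theorem locSplit_iff [Coh.IsQCoh F] (hFt : CohB1.IsFT F) (hV : FlatMod.IsFinLocFree V) {W : Scheme.{u}}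
    (h : W ⟶ X) :
    (∀ w : W, ∃ U : W.Opens, w ∈ U ∧
      ∃ r, (Scheme.Modules.pullback U.ι).map ((Scheme.Modules.pullback h).map u) ≫ r = 𝟙 _) ↔
      ∀ w : W, Mono ((Scheme.Modules.pullback (X.fromSpecResidueField (h w))).map u) := by
  constructor
  · intro H w
    obtain ⟨U, hw, hr⟩ := H w
    have h1 := (((sp_comp_iff u U.ι h).2 hr).comp u ((U : Scheme.{u}).fromSpecResidueField ⟨w, hw⟩)).mono
    exact (mono_point_iff u (U.ι ≫ h) ⟨w, hw⟩).1 h1
  · intro H
    let F' := (Scheme.Modules.pullback h).obj F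
    let V' := (Scheme.Modules.pullback h).obj V
    let u' : F' ⟶ V' := (Scheme.Modules.pullback h).map u
    have hF' : CohB1.IsFT F' := ConsLib.isFT_pullback h F hFt
    have hV' : FlatMod.IsFinLocFree V' := KFlatLib.isFinLocFree_pull h hV
    have hfib : ∀ w : W, Mono ((Scheme.Modules.pullback (W.fromSpecResidueField w)).map u') := fun w =>
      (mono_comp_iff u _ h).1 ((mono_point_iff u h w).2 (H w))
    haveI := mono_of_fibres u' hF' hV' hfib
    intro w
    obtain ⟨O, j, hj, o, k, ho, hk⟩ := Groth.Agent.PerfLib.exists_lift_locFree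
      (finLocFree_cokernel u' hF' hV' hfib).1 (𝟙 (cokernel u')) (cokernel.π u') w
    rw [CategoryTheory.Functor.map_id] at hk
    have hc : (ShortComplex.mk u' (cokernel.π u') (cokernel.condition u')).Exact :=
      ShortComplex.exact_of_g_is_cokernel _ (cokernelIsCokernel _)
    let R := Scheme.Modules.restrictFunctor j
    haveI : Mono (R.map u') := by
      rw [FlatLib.mono_map_iff_of_natIso (Scheme.Modules.restrictFunctorIsoPullback j)]
      exact (RpushLib.preservesMonomorphisms_pullback j).preserves _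
    let S : ShortComplex O.Modules := (ShortComplex.mk u' (cokernel.π u') (cokernel.condition u')).map R
    let sp := ShortComplex.Splitting.ofExactOfSection S (hc.map R) k hk ‹_›
    have hsp : Sp u' j := ⟨sp_of_natIso u' (Scheme.Modules.restrictFunctorIsoPullback j) ⟨sp.r, sp.f_r⟩⟩
    have h2 : Sp u' j.opensRange.ι := by
      rw [← Scheme.Hom.isoOpensRange_inv_comp j]
      exact hsp.comp u' _
    exact ⟨j.opensRange, ⟨o, ho⟩, h2.ex⟩

end SplitFibLib

end
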