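import Groth.Agent.SplitFibLib.Family

/-!
# Subgroups generated by root groups
-/

set_option autoImplicit false
set_option linter.style.haveILetI false
set_option linter.unusedSectionVars false
set_option backward.isDefEq.respectTransparency false
set_option maxHeartbeats 1000000
set_option synthInstance.maxHeartbeats 400000

universe u

open CategoryTheory CategoryTheory.Limits MonoidalCategory CartesianMonoidalCategory AlgebraicGeometry WithConv
open scoped MonObj
open CoactBr (sp)
open Groth.Agent.BorelLib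

noncomputable section

attribute [-instance] CategoryTheory.Hom.commGroup

namespace SplitFib

attribute [local instance] pTop pTopTensor

open SplitCell

/-- The two sides exchanged. -/
def flipSides {idx M N : Type} [AddCommGroup M] [AddCommGroup N] {P : RootPairing idx ℤ M N} (b : Sides P) : Sides P :=
  ⟨b.neg, b.pos, by
    obtain ⟨g, h1, h2⟩ := b.regular
    exact ⟨-g, fun i hi => by simpa using h2 i hi, fun i hi => by simpa using h1 i hi⟩, fun i => (b.total i).symm⟩

theorem exists_enumerates {idx : Type} [Finite idx] (s : Set idx) :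
    ∃ (l : ℕ) (e : Fin l → idx), RedSub.Enumerates s e := by
  classical
  haveI := Fintype.ofFinite idx
  refine ⟨_, fun k => ((Fintype.equivFin s).symm k : idx), fun x y h => (Fintype.equivFin s).symm.injective
    (Subtype.ext h), ?_⟩
  ext x
  exact ⟨fun ⟨k, hk⟩ => hk ▸ ((Fintype.equivFin s).symm k).2, fun hx => ⟨Fintype.equivFin s ⟨x, hx⟩, by simp⟩⟩

variable {S : Scheme.{u}} {G : Over S} [GrpObj G] (D : Red.SplitRed G) {K : Type u} [Field K] [IsAlgClosed K]
  (a : Spec (CommRingCat.of K) ⟶ S) {A : Type u} [CommRing A] [HopfAlgebra K A]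
  (v : sp K A ≅ Red.bc a G) [IsMonHom v.hom]

theorem uEl_zero (k : D.idx) : uEl D a v k 0 = 1 := by
  haveI := isMonHom_u D k
  rw [uEl, el_zero, map_one]

theorem uPe_eq_prod {n : ℕ} (e : Fin n → D.idx) (c : Fin n → K) :
    uPe D a v e c = (List.ofFn fun k => uEl D a v (e k) (c k)).prod := by
  rw [uPe, pe, map_list_prod, List.map_ofFn]
  rfl

theorem uPe_cons {n : ℕ} (k₀ : D.idx) (e : Fin n → D.idx) (c : Fin (n + 1) → K) :
    uPe D a v (Fin.cons k₀ e) c = uEl D a v k₀ (c 0) * uPe D a v e fun k => c k.succ := by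
  rw [uPe_eq_prod, uPe_eq_prod, List.ofFn_succ, List.prod_cons]
  simp only [Fin.cons_zero, Fin.cons_succ]

theorem conj_uEl (k : D.idx) (t : aP a K ⟶ D.T) (r : K) :
    torusHom D a v t * uEl D a v k r * (torusHom D a v t)⁻¹ =
      uEl D a v k ((ch D a t (Multiplicative.ofAdd (D.P.root k)) : K) * r) := by
  show ptG a v (t ≫ D.i) * ptG a v _ * (ptG a v (t ≫ D.i))⁻¹ = ptG a v _
  rw [← map_inv, ← map_mul, ← map_mul, conj_el]

/-- The subgroup generated by the root groups of a set. -/
def rootSub (s : Set D.idx) : Subgroup (Pt K A) := Subgroup.closure {x | ∃ k ∈ s, ∃ r, x = uEl D a v k r}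

theorem uEl_mem_rootSub {s : Set D.idx} {k : D.idx} (hk : k ∈ s) (r : K) : uEl D a v k r ∈ rootSub D a v s :=
  Subgroup.subset_closure ⟨k, hk, r, rfl⟩

theorem uPe_mem_rootSub {s : Set D.idx} {n : ℕ} {e : Fin n → D.idx} {c : Fin n → K}
    (h : ∀ k, c k ≠ 0 → e k ∈ s) : uPe D a v e c ∈ rootSub D a v s := by
  rw [uPe_eq_prod]
  refine Subgroup.list_prod_mem _ fun x hx => ?_
  obtain ⟨k, rfl⟩ := List.mem_ofFn.1 hx
  by_cases hk : c k = 0
  · rw [hk, uEl_zero]; exact one_mem _
  · exact uEl_mem_rootSub D a v (h k hk) _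

theorem rootSub_mono {s t : Set D.idx} (h : s ⊆ t) : rootSub D a v s ≤ rootSub D a v t :=
  Subgroup.closure_mono fun _ ⟨k, hk, r, hr⟩ => ⟨k, h hk, r, hr⟩

variable [Algebra.FiniteType K A] [IsAffine (Red.bc a G).left] [Smooth (Red.bc a G).hom] (b : Sides D.P)

/-- **The coordinates of a saturated set of positive roots.** -/
theorem rootSub_props {l : ℕ} {e : Fin l → D.idx} (hs : IsSatur D e) (he : Function.Injective e)
    (hp : ∀ k, e k ∈ b.pos) :
    (∀ x, x ∈ rootSub D a v (Set.range e) ↔ ∃ c, x = uPe D a v e c) ∧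
      IsClosed (rootSub D a v (Set.range e) : Set (Pt K A)) ∧
      _root_.IsPreconnected (rootSub D a v (Set.range e) : Set (Pt K A)) ∧
      ∀ x ∈ rootSub D a v (Set.range e), IsUni x := by
  obtain ⟨U, hU, h1, h2, h3⟩ := exists_usub D a v b hs he hp
  have e0 : rootSub D a v (Set.range e) = U := by
    refine le_antisymm ((Subgroup.closure_le _).2 ?_) fun x hx => ?_
    · rintro _ ⟨_, ⟨j, rfl⟩, r, rfl⟩
      exact (hU _).2 ⟨_, (uPe_single D a v e j r).symm⟩
    · obtain ⟨c, rfl⟩ := (hU x).1 hx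
      exact uPe_mem_rootSub D a v fun k _ => ⟨k, rfl⟩
  rw [e0]
  exact ⟨hU, h1, h2, h3⟩

end SplitFib

end
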