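import Groth.Agent.SplitFibLib.Levels

/-!
# The tails of an ordered product are normal
-/

set_option autoImplicit false
set_option linter.style.haveILetI false
set_option linter.unusedSectionVars false
set_option backward.isDefEq.respectTransparency false
set_option maxHeartbeats 1000000
set_option synthInstance.maxHeartbeats 400000

universe u

open CategoryTheory CategoryTheory.Limits MonoidalCategory CartesianMonoidalCategory AlgebraicGeometry
open Groth.Agent.GaPts
open Groth.Agent.RankOne (eq_ptOf comp_ptOf)
open scoped MonObj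

noncomputable section

attribute [-instance] CategoryTheory.Hom.commGroup

namespace SplitFib

open SplitCell

variable {S : Scheme.{u}} {G : Over S} [GrpObj G] {D : Red.SplitRed G} {b : Sides D.P} {i m : ℕ}
  {eh : Fin i → D.idx} {et : Fin m → D.idx}

/-- **A tail is normalised by the whole product, and its first coordinate is kept.** -/
theorem conj_tail (hs : IsSatur D (Fin.append eh et)) (he : Function.Injective (Fin.append eh et))
    (hp : ∀ k, Fin.append eh et k ∈ b.pos) {f : D.M →ₗ[ℤ] ℤ} (hf : ∀ j ∈ b.pos, 0 < f (D.P.root j))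
    (hlt : ∀ r s, f (D.P.root (eh r)) < f (D.P.root (et s))) {X : Over S}
    (x : X ⟶ RedSub.pow (Red.Ga S) (i + m)) (y : X ⟶ RedSub.pow (Red.Ga S) m) :
    ∃ z : X ⟶ RedSub.pow (Red.Ga S) m, z ≫ rprod D et =
      (x ≫ rprod D (Fin.append eh et)) * (y ≫ rprod D et) * (x ≫ rprod D (Fin.append eh et))⁻¹ ∧
      ∀ k : Fin m, (∀ s, s ≠ k → f (D.P.root (et k)) < f (D.P.root (et s))) → z ≫ prj S k = y ≫ prj S k := by
  classical
  set e := Fin.append eh et with hedef
  haveI := isAffineHom_hom D
  haveI : ∀ k, IsMonHom ((fun k => D.u (e k)) k) := fun k => isMonHom_u D _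
  haveI : ∀ k, IsMonHom ((fun k => D.u (et k)) k) := fun k => isMonHom_u D _
  haveI : ∀ k, IsMonHom ((fun k => D.u (eh k)) k) := fun k => isMonHom_u D _
  haveI : ∀ k, Mono ((fun k => D.u (e k)) k) := fun k => mono_u D _
  have het : Function.Injective et := fun r s h =>
    Fin.natAdd_injective m i (he (by rw [hedef, Fin.append_right, Fin.append_right, h]))
  have hpt : ∀ k, et k ∈ b.pos := fun k => by simpa [hedef] using hp (Fin.natAdd i k)
  obtain ⟨g, hg⟩ := exists_injective_functional (fun k => D.P.root k) D.P.root.injective
  let L := i + m + m + (i + m)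
  let w : Fin L → Fin (i + m) := Fin.append (Fin.append id (Fin.natAdd i)) Fin.rev
  -- the local computation
  have hloc : ∀ (Y : Over S) (π : Y ⟶ X) [IsAffine Y.left], ∃ c d : Fin m → Γ(Y.left, ⊤),
      (affIso Y).hom ≫ π ≫ ((x ≫ rprod D e) * (y ≫ rprod D et) * (x ≫ rprod D e)⁻¹) =
        pe (Y.left.isoSpec.inv ≫ Y.hom) (fun k => D.u (et k)) c ∧
      (∀ k : Fin m, (∀ s, s ≠ k → f (D.P.root (et k)) < f (D.P.root (et s))) → c k = d k) ∧
      pw (Y.left.isoSpec.inv ≫ Y.hom) d = (affIso Y).hom ≫ π ≫ y := by
    intro Y π _
    let a := Y.left.isoSpec.inv ≫ Y.hom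
    let A := Γ(Y.left, ⊤)
    obtain ⟨xv, hxv⟩ := exists_pw a ((affIso Y).hom ≫ π ≫ x)
    obtain ⟨yv, hyv⟩ := exists_pw a ((affIso Y).hom ≫ π ≫ y)
    obtain ⟨C, hC, hCw⟩ := exists_law b hs he hp a w
    have hinj : ∀ {c c' : Fin (i + m) → A}, pe a (fun k => D.u (e k)) c = pe a (fun k => D.u (e k)) c' → c = c' :=
      fun h => pe_injective a (hasWeights_coch D f e) (fun k => hf _ (hp k)) (hasWeights_coch D g e) (hg.comp he) h
    let val : (Fin (i + m) → A) → (Fin m → A) → Fin L → A :=
      fun p q => Fin.append (Fin.append p q) fun k => -p k.rev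
    have hword : ∀ p q, pe a (fun s => D.u (e (w s))) (val p q) =
        pe a (fun k => D.u (e k)) p * pe a (fun k => D.u (et k)) q * (pe a (fun k => D.u (e k)) p)⁻¹ := by
      intro p q
      rw [show (fun s => D.u (e (w s))) = Fin.append (Fin.append (fun k => D.u (e k)) fun k => D.u (et k))
          (fun k => D.u (e k.rev)) from funext fun s => Fin.addCases (fun s => Fin.addCases (fun s => by simp [w])
            (fun s => by simp [w, hedef]) s) (fun s => by simp [w]) s,
        pe_append, pe_append, pe_inv]
    have hzero : ∀ p k, MvPolynomial.aeval (val p fun _ => 0) (C k) = 0 := by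
      intro p k
      refine congrFun (hinj (c := fun k => MvPolynomial.aeval (val p fun _ => 0) (C k)) (c' := fun _ => 0) ?_) k
      rw [← hC, hword, pe_zero, _root_.mul_one, mul_inv_cancel, pe_zero]
    -- the letters of the tail occur in low coordinates only linearly
    have hsplit : ∀ (k : Fin (i + m)) (q : Fin m → A) (s₀ : Fin m → Prop) [DecidablePred s₀],
        (∀ s, ¬ s₀ s → f (D.P.root (e k)) < f (D.P.root (et s))) →
        (∀ s, s₀ s → f (D.P.root (e k)) ≤ f (D.P.root (et s))) →
        ∀ p, MvPolynomial.aeval (val p q) (C k) = ∑ s, if s₀ s then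
          (C k).coeff (Finsupp.single (Fin.castAdd (i + m) (Fin.natAdd (i + m) s)) 1) * q s else 0 := by
      intro k q s₀ _ h1 h2 p
      have h0 := hzero p k
      let ys : Fin m → (Fin L →₀ ℕ) := fun s => Finsupp.single (Fin.castAdd (i + m) (Fin.natAdd (i + m) s)) 1
      have hys : Function.Injective ys := fun s t h =>
        Fin.natAdd_injective m (i + m) (Fin.castAdd_injective _ _ (Finsupp.single_left_injective one_ne_zero h))
      have hdiff : MvPolynomial.aeval (val p q) (C k) - MvPolynomial.aeval (val p fun _ => 0) (C k) =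
          ∑ d ∈ (C k).support, (MvPolynomial.aeval (val p q) (MvPolynomial.monomial d ((C k).coeff d)) -
            MvPolynomial.aeval (val p fun _ => 0) (MvPolynomial.monomial d ((C k).coeff d))) := by
        rw [Finset.sum_sub_distrib, ← map_sum, ← map_sum, ← (C k).as_sum]
      rw [h0, sub_zero] at hdiff
      rw [hdiff, Finset.sum_subset (Finset.subset_union_left (s₂ := Finset.univ.image ys)) (fun d _ hd => by
          rw [MvPolynomial.notMem_support_iff.1 hd, map_zero, map_zero, map_zero, sub_zero]),
        ← Finset.sum_subset (Finset.subset_union_right (s₁ := (C k).support) (s₂ := Finset.univ.image ys))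
          (fun d _ hd => ?_), Finset.sum_image fun s _ t _ h => hys h]
      · refine Finset.sum_congr rfl fun s _ => ?_
        have hval : ∀ q, val p q (Fin.castAdd (i + m) (Fin.natAdd (i + m) s)) = q s := fun q => by simp [val]
        by_cases hs0 : s₀ s
        · rw [if_pos hs0]
          simp only [ys, MvPolynomial.aeval_monomial, Finsupp.prod_single_index, pow_zero, pow_one, hval,
            Algebra.algebraMap_self, RingHom.id_apply, mul_zero, sub_zero]
          rfl
        · rw [if_neg hs0]
          by_cases hc : (C k).coeff (ys s) = 0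
          · rw [hc, map_zero, map_zero, map_zero, sub_zero]
          exfalso
          have h3 := congrArg f (hCw k _ hc)
          simp only [map_sum, map_zsmul, smul_eq_mul] at h3
          rw [Finset.sum_eq_single (Fin.castAdd (i + m) (Fin.natAdd (i + m) s)) (fun t _ ht => by
              simp only [ys]; rw [Finsupp.single_eq_of_ne ht]; simp) (fun h => absurd (Finset.mem_univ _) h)] at h3
          simp [ys, w, hedef] at h3
          have := h1 s hs0
          rw [h3] at this
          exact lt_irrefl _ this
      -- other monomials do not contain letters of the tail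
      by_cases hc : (C k).coeff d = 0
      · rw [hc, map_zero, map_zero, map_zero, sub_zero]
      have hno : ∀ s, d (Fin.castAdd (i + m) (Fin.natAdd (i + m) s)) = 0 := by
        intro s
        by_contra hs
        have h3 := congrArg f (hCw k _ hc)
        simp only [map_sum, map_zsmul, smul_eq_mul] at h3
        set t := Fin.castAdd (i + m) (Fin.natAdd (i + m) s) with ht
        have hwt : e (w t) = et s := by simp [ht, w, hedef]
        have hpos : ∀ r, 0 < f (D.P.root (e (w r))) := fun r => hf _ (hp _)
        have hge : f (D.P.root (e k)) ≤ f (D.P.root (et s)) := by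
          by_cases hs0 : s₀ s
          · exact h2 s hs0
          · exact (h1 s hs0).le
        have hnn : ∀ r, 0 ≤ (d r : ℤ) * f (D.P.root (e (w r))) := fun r =>
          mul_nonneg (Int.natCast_nonneg _) (hpos r).le
        have h4 := Finset.add_sum_erase Finset.univ (fun r => (d r : ℤ) * f (D.P.root (e (w r)))) (Finset.mem_univ t)
        simp only [← h3, hwt] at h4
        have hrest : 0 ≤ ∑ r ∈ Finset.univ.erase t, (d r : ℤ) * f (D.P.root (e (w r))) :=
          Finset.sum_nonneg fun r _ => hnn r
        have h5 := hpos t
        rw [hwt] at h5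
        have hd1 : (d t : ℤ) = 1 := by
          have : 0 < (d t : ℤ) := by omega
          nlinarith
        rw [hd1, _root_.one_mul] at h4
        have hz : ∀ r, r ≠ t → d r = 0 := fun r hr => by
          by_contra hne
          have h6 := Finset.single_le_sum (fun r _ => hnn r) (Finset.mem_erase.2 ⟨hr, Finset.mem_univ r⟩ :
            r ∈ Finset.univ.erase t)
          have h7 : 0 < (d r : ℤ) * f (D.P.root (e (w r))) := mul_pos (by omega) (hpos r)
          omega
        refine hd (Finset.mem_image.2 ⟨s, Finset.mem_univ _, (Finsupp.ext fun r => ?_).symm⟩)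
        by_cases hr : r = t
        · rw [hr]; simp only [ys, ← ht, Finsupp.single_eq_same]; exact_mod_cast hd1
        · simp only [ys, ← ht]; rw [Finsupp.single_eq_of_ne hr, hz r hr]
      rw [sub_eq_zero]
      simp only [MvPolynomial.aeval_monomial]
      congr 1
      refine Finsupp.prod_congr fun r hr => ?_
      congr 1
      revert hr
      refine Fin.addCases (fun r => Fin.addCases (fun r _ => by simp [val]) (fun r hr => ?_) r)
        (fun r _ => by simp [val]) r
      exact absurd (hno r) (Finsupp.mem_support_iff.1 hr)
    let cc : Fin (i + m) → A := fun k => MvPolynomial.aeval (val xv yv) (C k)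
    have hhead : ∀ r, cc (Fin.castAdd m r) = 0 := fun r => by
      show MvPolynomial.aeval _ _ = _
      rw [hsplit _ yv (fun _ => False) (fun s _ => by rw [hedef, Fin.append_left]; exact hlt r s)
        (fun s h => h.elim)]
      simp
    refine ⟨fun k => cc (Fin.natAdd i k), yv, ?_, fun k hk => ?_, hyv⟩
    · have hconj : (affIso Y).hom ≫ π ≫ ((x ≫ rprod D e) * (y ≫ rprod D et) * (x ≫ rprod D e)⁻¹) =
          pe a (fun k => D.u (e k)) cc := by
        rw [← hC, hword, ← pw_prodMap, ← pw_prodMap, hxv, hyv]
        simp only [MonObj.comp_mul, GrpObj.comp_inv, Category.assoc]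
      rw [hconj, show cc = Fin.append (fun r => cc (Fin.castAdd m r)) (fun k => cc (Fin.natAdd i k)) from
        (Fin.append_castAdd_natAdd).symm,
        show (fun k => D.u (e k)) = Fin.append (fun k => D.u (eh k)) (fun k => D.u (et k)) from
          funext fun k => Fin.addCases (fun s => by simp [hedef]) (fun s => by simp [hedef]) k,
        pe_append, funext hhead, pe_zero, _root_.one_mul]
      simp only [Fin.append_right]
      rfl
    · have h1 : ∀ q p, MvPolynomial.aeval (val p q) (C (Fin.natAdd i k)) =
          (C (Fin.natAdd i k)).coeff (Finsupp.single (Fin.castAdd (i + m) (Fin.natAdd (i + m) k)) 1) * q k :=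
        fun q p => by
          rw [hsplit _ q (fun s => s = k) (fun s hs => by rw [hedef, Fin.append_right]; exact hk s hs)
            (fun s hs => by rw [hedef, Fin.append_right, hs]), Finset.sum_ite_eq' Finset.univ k, if_pos (Finset.mem_univ _)]
      have h2 : MvPolynomial.aeval (val (fun _ => 0) fun s => if s = k then 1 else 0) (C (Fin.natAdd i k)) = 1 := by
        have h := hinj (c := fun k' => MvPolynomial.aeval (val (fun _ => 0) fun s => if s = k then 1 else 0) (C k'))
          (c' := fun k' => if k' = Fin.natAdd i k then 1 else 0) (by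
            rw [← hC, hword, pe_zero, inv_one, _root_.one_mul, _root_.mul_one, pe_single, pe_single, hedef,
              Fin.append_right])
        exact (congrFun h _).trans (if_pos rfl)
      rw [h1, if_pos rfl, _root_.mul_one] at h2
      show cc _ = _
      rw [show cc (Fin.natAdd i k) = _ from h1 yv xv, h2, _root_.one_mul]
  obtain ⟨z, hz⟩ := exists_lift_prod D b het hpt (g := (x ≫ rprod D e) * (y ≫ rprod D et) * (x ≫ rprod D e)⁻¹)
    fun Y π _ => by
      obtain ⟨c, -, hc, -⟩ := hloc Y π
      exact ⟨c, hc⟩
  refine ⟨z, hz, fun k hk => Groth.Agent.BigCell.eq_of_affine fun Y π hY => ?_⟩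
  haveI := hY
  refine (cancel_epi (affIso Y).hom).1 ?_
  obtain ⟨c, d, hc, hcd, hd⟩ := hloc Y π
  have hzc : (affIso Y).hom ≫ π ≫ z = pw (Y.left.isoSpec.inv ≫ Y.hom) c := by
    haveI := mono_rprod D b het hpt
    rw [← cancel_mono (rprod D et), Category.assoc, Category.assoc, hz, hc, pw_prodMap]
  have h1 := congrArg (· ≫ prj S k) hzc
  have h2 := congrArg (· ≫ prj S k) hd
  simp only [Category.assoc, pw_prj] at h1 h2 ⊢
  rw [h1, ← h2, hcd k hk]

end SplitFib

end
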