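import Groth.Agent.SplitFibLib.Levels

/-!
# Roots positive for an order on the lattice
-/

set_option autoImplicit false
set_option linter.style.haveILetI false
set_option linter.unusedSectionVars false
set_option backward.isDefEq.respectTransparency false
set_option maxHeartbeats 1000000

universe u

open CategoryTheory AlgebraicGeometry
open scoped MonObj

noncomputable section

namespace SplitFib

open SplitCell

variable {S : Scheme.{u}} {G : Over S} [GrpObj G]

/-- **The roots positive for an order form a positive side**, with a functional ordering them. -/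
theorem exists_orderSides (D : Red.SplitRed G) [LinearOrder D.M] [IsOrderedAddMonoid D.M] {N : ℕ} (e : Fin N → D.idx)
    (hrange : ∀ a : D.idx, a ∈ Set.range e ↔ 0 < D.P.root a) (hmono : StrictMono (fun k => D.P.root (e k))) :
    ∃ f : D.M →ₗ[ℤ] ℤ, (∀ k, 0 < f (D.P.root (e k))) ∧
      (∀ k k', k < k' → f (D.P.root (e k)) < f (D.P.root (e k'))) ∧ ∃ b : Sides D.P, b.pos = Set.range e := by
  classical
  haveI : Fintype D.idx := Fintype.ofFinite _
  let l₁ := (Finset.univ : Finset D.idx).toList.map fun a => |D.P.root a|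
  let l₂ := (Finset.univ : Finset (Fin N × Fin N)).toList.map fun p : Fin N × Fin N =>
    if p.1 < p.2 then D.P.root (e p.2) - D.P.root (e p.1) else D.P.root (e p.1)
  obtain ⟨g, hg⟩ := exists_order_functional (l₁ ++ l₂) (fun x hx => by
    rcases List.mem_append.1 hx with hx | hx
    · obtain ⟨a, -, rfl⟩ := List.mem_map.1 hx
      exact abs_pos.2 (D.P.ne_zero a)
    · obtain ⟨p, -, rfl⟩ := List.mem_map.1 hx
      split_ifs with h
      · exact sub_pos.2 (hmono h)
      · exact (hrange _).1 (Set.mem_range_self _))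
  have habs : ∀ a, 0 < g |D.P.root a| := fun a =>
    hg _ (List.mem_append_left _ (List.mem_map.2 ⟨a, Finset.mem_toList.2 (Finset.mem_univ a), rfl⟩))
  have hpos : ∀ a, 0 < D.P.root a → 0 < g (D.P.root a) := fun a ha => by
    have := habs a
    rwa [abs_of_pos ha] at this
  have hneg : ∀ a, D.P.root a < 0 → g (D.P.root a) < 0 := fun a ha => by
    have := habs a
    rw [abs_of_neg ha, map_neg] at this
    omega
  refine ⟨g, fun k => hpos _ ((hrange _).1 (Set.mem_range_self k)), fun k k' h => ?_,
    ⟨Set.range e, {a | D.P.root a < 0}, ⟨g, fun a ha => hpos a ((hrange a).1 ha), hneg⟩, fun a => ?_⟩, rfl⟩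
  · have := hg _ (List.mem_append_right _ (List.mem_map.2 ⟨(k, k'), Finset.mem_toList.2 (Finset.mem_univ _), rfl⟩))
    simp only [h, if_true, map_sub] at this
    exact sub_pos.1 this
  · rcases lt_or_gt_of_ne (D.P.ne_zero a) with h | h
    · exact Or.inr h
    · exact Or.inl ((hrange a).2 h)

variable {D : Red.SplitRed G} {b : Sides D.P} {i m : ℕ} {eh : Fin i → D.idx} {et : Fin m → D.idx}

/-- The tail of a saturated list above a threshold is saturated. -/
theorem isSatur_tail (hs : IsSatur D (Fin.append eh et)) {f : D.M →ₗ[ℤ] ℤ} (hf : ∀ j ∈ b.pos, 0 < f (D.P.root j))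
    (hp : ∀ k, Fin.append eh et k ∈ b.pos) (hlt : ∀ r s, f (D.P.root (eh r)) < f (D.P.root (et s))) :
    IsSatur D et := by
  intro c d hd
  obtain ⟨k, hk⟩ := hs c (Fin.append 0 d) (by
    rw [hd, Fin.sum_univ_add]; simp)
  revert hk
  refine Fin.addCases (fun r hk => ?_) (fun s hk => ⟨s, by simpa using hk⟩) k
  exfalso
  rw [Fin.append_left] at hk
  subst hk
  have h := congrArg f hd
  simp only [map_sum, map_zsmul, smul_eq_mul] at h
  have hnn : ∀ s, 0 ≤ (d s : ℤ) * f (D.P.root (et s)) := fun s =>
    mul_nonneg (Int.natCast_nonneg _) (hf _ (by simpa using hp (Fin.natAdd i s))).le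
  obtain ⟨s, hs0⟩ : ∃ s, d s ≠ 0 := by
    by_contra hno
    push Not at hno
    exact D.P.ne_zero _ (by simp [hd, hno] : D.P.root (eh r) = 0)
  have h1 := Finset.single_le_sum (fun s _ => hnn s) (Finset.mem_univ s)
  have h2 := hlt r s
  have h3 : 1 * f (D.P.root (et s)) ≤ (d s : ℤ) * f (D.P.root (et s)) :=
    mul_le_mul_of_nonneg_right (by omega) (hf _ (by simpa using hp (Fin.natAdd i s))).le
  omega

end SplitFib

end
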