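import Groth.Agent.SplitFibLib.PolyFn
import Groth.Agent.SplitFibLib.OrderPos

/-!
# The group law of a saturated set of positive roots is polynomial over the base
-/

set_option autoImplicit false
set_option linter.style.haveILetI false
set_option linter.unusedSectionVars false
set_option backward.isDefEq.respectTransparency false
set_option maxHeartbeats 1000000
set_option synthInstance.maxHeartbeats 400000

universe u

open CategoryTheory CategoryTheory.Limits MonoidalCategory CartesianMonoidalCategory AlgebraicGeometry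
open Groth.Agent.GaPts
open Groth.Agent.RankOne (eq_ptOf comp_ptOf)
open scoped MonObj

noncomputable section

attribute [-instance] CategoryTheory.Hom.commGroup

namespace SplitFib

open SplitCell

variable {S : Scheme.{u}}

/-- The affine point of a scheme with affine image. -/
theorem exists_affPt {U : S.Opens} (hU : IsAffineOpen U) (Y : Over S) [IsAffine Y.left] (h : ⊤ ≤ Y.hom ⁻¹ᵁ U) :
    letI : Algebra Γ(S, U) Γ(Y.left, ⊤) := (Y.hom.appLE U ⊤ h).hom.toAlgebra
    ∃ j : aP hU.fromSpec Γ(Y.left, ⊤) ≅ Y, ∀ x, j.hom.left.appTop x = cst hU.fromSpec Γ(Y.left, ⊤) x := by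
  letI : Algebra Γ(S, U) Γ(Y.left, ⊤) := (Y.hom.appLE U ⊤ h).hom.toAlgebra
  refine ⟨Over.isoMk Y.left.isoSpec.symm ?_, fun x => ?_⟩
  · show Y.left.isoSpec.inv ≫ Y.hom =
      Spec.map (CommRingCat.ofHom (algebraMap Γ(S, U) Γ(Y.left, ⊤))) ≫ hU.fromSpec
    rw [RingHom.algebraMap_toAlgebra, CommRingCat.ofHom_hom, hU.SpecMap_appLE_fromSpec _ (isAffineOpen_top _),
      IsAffineOpen.fromSpec_top]
  · have e : Y.left.isoSpec.inv.appTop = (Scheme.ΓSpecIso Γ(Y.left, ⊤)).inv := by
      rw [← Iso.hom_comp_eq_id, ← Scheme.toSpecΓ_appTop, ← Scheme.isoSpec_hom, ← Scheme.Hom.comp_appTop,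
        Iso.inv_hom_id, Scheme.Hom.id_appTop]
    exact congr($e x)

variable {G : Over S} [GrpObj G] {D : Red.SplitRed G} {b : Sides D.P} {l : ℕ} {e : Fin l → D.idx}

/-- **The group law is polynomial over the base**, homogeneous for the weights. -/
theorem exists_poly_law (hs : IsSatur D e) (he : Function.Injective e) (hp : ∀ k, e k ∈ b.pos) {f : D.M →ₗ[ℤ] ℤ}
    (hf : ∀ j ∈ b.pos, 0 < f (D.P.root j)) [GrpObj (RedSub.pow (Red.Ga S) l)] [IsMonHom (rprod D e)] (k : Fin l) :
    ∃ Q : MvPolynomial (Fin l ⊕ Fin l) Γ(S, ⊤),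
      IsPolyOn ⊤ (fun Y v => Red.gaFn ((tup (v ∘ Sum.inl) * tup (v ∘ Sum.inr) : Y ⟶ _) ≫ prj S k)) Q ∧
      ∀ d, Q.coeff d ≠ 0 → D.P.root (e k) = ∑ s, (d s : ℤ) • D.P.root (e (Sum.elim id id s)) := by
  classical
  let B : (Fin l ⊕ Fin l) →₀ ℕ := Finsupp.equivFunOnFinite.symm fun _ => (f (D.P.root (e k))).toNat
  let F : Finset ((Fin l ⊕ Fin l) →₀ ℕ) := (Finset.Iic B).filter fun d =>
    D.P.root (e k) = ∑ s, (d s : ℤ) • D.P.root (e (Sum.elim id id s))
  have hΦ : ∀ {Y Y' : Over S} (g : Y' ⟶ Y) (v : Fin l ⊕ Fin l → (Y ⟶ Red.Ga S)),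
      g.left.appTop (Red.gaFn ((tup (v ∘ Sum.inl) * tup (v ∘ Sum.inr) : Y ⟶ _) ≫ prj S k)) =
        Red.gaFn ((tup ((fun j => g ≫ v j) ∘ Sum.inl) * tup ((fun j => g ≫ v j) ∘ Sum.inr) : Y' ⟶ _) ≫ prj S k) :=
    fun g v => by
      rw [← gaFn_comp', ← Category.assoc, MonObj.comp_mul, comp_tup, comp_tup]
      rfl
  suffices hloc : ∀ U : S.affineOpens, ∃ C : MvPolynomial (Fin l ⊕ Fin l) Γ(S, U.1),
      IsPolyOn U.1 (fun Y v => Red.gaFn ((tup (v ∘ Sum.inl) * tup (v ∘ Sum.inr) : Y ⟶ _) ≫ prj S k)) C ∧ C.support ⊆ F by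
    obtain ⟨Q, hQ, hQF⟩ := exists_isPolyOn_top hΦ F hloc
    exact ⟨Q, hQ, fun d hd => (Finset.mem_filter.1 (hQF (MvPolynomial.mem_support_iff.2 hd))).2⟩
  rintro ⟨U, hU⟩
  obtain ⟨C, hC, hCw⟩ := exists_law b hs he hp hU.fromSpec (Fin.append id id)
  have hw' : ∀ d, (MvPolynomial.rename finSumFinEquiv.symm (C k)).coeff d ≠ 0 →
      D.P.root (e k) = ∑ s, (d s : ℤ) • D.P.root (e (Sum.elim id id s)) := by
    intro d hd
    obtain ⟨d', rfl, hd'⟩ := MvPolynomial.coeff_rename_ne_zero _ _ _ hd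
    rw [hCw k d' hd', ← Equiv.sum_comp finSumFinEquiv]
    refine Finset.sum_congr rfl fun s _ => ?_
    rw [show Finsupp.mapDomain (⇑finSumFinEquiv.symm) d' s = d' (finSumFinEquiv s) by
      conv_lhs => rw [← finSumFinEquiv.symm_apply_apply s]
      exact Finsupp.mapDomain_apply finSumFinEquiv.symm.injective _ _]
    rcases s with s | s <;>
      simp only [finSumFinEquiv_apply_left, finSumFinEquiv_apply_right, Fin.append_left, Fin.append_right, Sum.elim_inl,
        Sum.elim_inr, id_eq]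
  refine ⟨MvPolynomial.rename finSumFinEquiv.symm (C k), fun Y h v => ?_, fun d hd => ?_⟩
  · refine (gaFn_ptOf _).symm.trans ((congrArg Red.gaFn ?_).trans (gaFn_ptOf _))
    refine Groth.Agent.BigCell.eq_of_affine fun Y' π hY' => ?_
    rw [comp_ptOf, comp_ptOf, hΦ, eval₂_naturality π h fun x _ => ?_]
    swap
    · show Y'.hom x ∈ U
      rw [← Over.w π]
      exact h (Set.mem_univ _)
    refine congrArg ptOf ?_
    have h' : ⊤ ≤ Y'.hom ⁻¹ᵁ U := fun x _ => by
      show Y'.hom x ∈ U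
      rw [← Over.w π]
      exact h (Set.mem_univ _)
    suffices key : ∀ w : Fin l ⊕ Fin l → (Y' ⟶ Red.Ga S),
        Red.gaFn ((tup (w ∘ Sum.inl) * tup (w ∘ Sum.inr) : Y' ⟶ _) ≫ prj S k) =
          MvPolynomial.eval₂ (Y'.hom.appLE U ⊤ h').hom (fun t => Red.gaFn (w t))
            (MvPolynomial.rename finSumFinEquiv.symm (C k)) from key fun j => π ≫ v j
    intro w
    haveI := hY'
    letI : Algebra Γ(S, U) Γ(Y'.left, ⊤) := (Y'.hom.appLE U ⊤ h').hom.toAlgebra
    obtain ⟨j, hj⟩ := exists_affPt hU Y' h'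
    haveI := mono_rprod D b he hp
    let r : Fin l ⊕ Fin l → Γ(Y'.left, ⊤) := fun t => Red.gaFn (w t)
    have hjw : ∀ t, j.hom ≫ w t = ptOf (cst hU.fromSpec Γ(Y'.left, ⊤) (r t)) := fun t => by
      rw [← hj]; exact eq_ptOf _ (gaFn_comp' _ _)
    have hlaw : j.hom ≫ (tup (w ∘ Sum.inl) * tup (w ∘ Sum.inr)) = pw hU.fromSpec fun i =>
        MvPolynomial.aeval (Fin.append (r ∘ Sum.inl) (r ∘ Sum.inr)) (C i) := by
      rw [← cancel_mono (rprod D e), pw_prodMap, ← hC, MonObj.comp_mul, comp_tup, comp_tup, MonObj.mul_comp,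
        show (fun s => D.u (e (Fin.append id id s))) = Fin.append (fun i => D.u (e i)) (fun i => D.u (e i)) from
          funext fun s => Fin.addCases (fun i => by simp only [Fin.append_left, id_eq])
            (fun i => by simp only [Fin.append_right, id_eq]) s, pe_append,
        ← pw_prodMap, ← pw_prodMap, ← tup_pw, ← tup_pw]
      simp only [Function.comp_apply, hjw]
    have h1 : j.hom.left.appTop (Red.gaFn ((tup (w ∘ Sum.inl) * tup (w ∘ Sum.inr) : Y' ⟶ _) ≫ prj S k)) =
        j.hom.left.appTop (MvPolynomial.eval₂ (Y'.hom.appLE U ⊤ h').hom (fun t => Red.gaFn (w t))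
          (MvPolynomial.rename finSumFinEquiv.symm (C k))) := by
      rw [← gaFn_comp', ← Category.assoc, hlaw, pw_prj, gaFn_ptOf, hj, MvPolynomial.eval₂_rename,
        MvPolynomial.aeval_def, RingHom.algebraMap_toAlgebra]
      congr 2
      funext s
      refine Fin.addCases (fun i => ?_) (fun i => ?_) s <;>
        simp only [r, Function.comp_apply, finSumFinEquiv_symm_apply_castAdd, finSumFinEquiv_symm_apply_natAdd,
          Fin.append_left, Fin.append_right]
    exact (ConcreteCategory.bijective_of_isIso j.hom.left.appTop).1 h1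
  · refine Finset.mem_filter.2 ⟨Finset.mem_Iic.2 fun s => ?_, hw' d (MvPolynomial.mem_support_iff.1 hd)⟩
    have h2 := congrArg f (hw' d (MvPolynomial.mem_support_iff.1 hd))
    simp only [map_sum, map_zsmul, smul_eq_mul] at h2
    have hpos : ∀ s, 0 < f (D.P.root (e (Sum.elim id id s))) := fun s => hf _ (hp _)
    have h3 := Finset.single_le_sum (fun t _ => mul_nonneg (Int.natCast_nonneg (d t)) (hpos t).le) (Finset.mem_univ s)
    have h4 : (d s : ℤ) * 1 ≤ (d s : ℤ) * f (D.P.root (e (Sum.elim id id s))) :=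
      mul_le_mul_of_nonneg_left (hpos s) (Int.natCast_nonneg _)
    show d s ≤ (f (D.P.root (e k))).toNat
    omega

/-- The weights make the law triangular. -/
theorem eq_single_or_vars_lt {f : D.M →ₗ[ℤ] ℤ} (hf : ∀ j, 0 < f (D.P.root (e j)))
    (hmono : ∀ i j, i < j → f (D.P.root (e i)) < f (D.P.root (e j))) {k : Fin l} {d : (Fin l ⊕ Fin l) →₀ ℕ}
    (hd : D.P.root (e k) = ∑ s, (d s : ℤ) • D.P.root (e (Sum.elim id id s))) {v : Fin l ⊕ Fin l} (hv : d v ≠ 0) :
    Sum.elim id id v < k ∨ d = Finsupp.single (Sum.inl k) 1 ∨ d = Finsupp.single (Sum.inr k) 1 := by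
  classical
  refine (lt_or_ge (Sum.elim id id v) k).imp_right fun hge => ?_
  have hle : f (D.P.root (e k)) ≤ f (D.P.root (e (Sum.elim id id v))) :=
    hge.eq_or_lt.elim (fun h => by rw [h]) fun h => (hmono _ _ h).le
  have h := congrArg f hd
  simp only [map_sum, map_zsmul, smul_eq_mul] at h
  rw [← Finset.add_sum_erase _ _ (Finset.mem_univ v)] at h
  have hnn : ∀ t, 0 ≤ (d t : ℤ) * f (D.P.root (e (Sum.elim id id t))) := fun t =>
    mul_nonneg (Int.natCast_nonneg _) (hf _).le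
  have hrest := Finset.sum_nonneg fun t (_ : t ∈ Finset.univ.erase v) => hnn t
  have hv1 : 1 * f (D.P.root (e (Sum.elim id id v))) ≤ (d v : ℤ) * f (D.P.root (e (Sum.elim id id v))) :=
    mul_le_mul_of_nonneg_right (by omega) (hf _).le
  have hfe : f (D.P.root (e (Sum.elim id id v))) = f (D.P.root (e k)) := by omega
  have hd1 : d v = 1 := by
    have h1 : ((d v : ℤ) - 1) * f (D.P.root (e (Sum.elim id id v))) = 0 := by rw [sub_mul, _root_.one_mul]; omega
    rcases mul_eq_zero.1 h1 with h2 | h2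
    · omega
    · exact absurd h2 (hf _).ne'
  have hvk : Sum.elim id id v = k := (hge.eq_or_lt.resolve_right fun h => (hmono _ _ h).ne' hfe).symm
  have hds : d = Finsupp.single v 1 := Finsupp.ext fun t => by
    by_cases ht : t = v
    · rw [ht, Finsupp.single_eq_same, hd1]
    · rw [Finsupp.single_eq_of_ne ht]
      by_contra hne
      have h5 := Finset.single_le_sum (fun t (_ : t ∈ Finset.univ.erase v) => hnn t)
        (Finset.mem_erase.2 ⟨ht, Finset.mem_univ t⟩)
      have h6 : 0 < (d t : ℤ) * f (D.P.root (e (Sum.elim id id t))) := mul_pos (by omega) (hf _)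
      omega
  rcases v with v | v
  · exact Or.inl (by rw [hds, show v = k from hvk])
  · exact Or.inr (by rw [hds, show v = k from hvk])

end SplitFib

end
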