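import Groth.Agent.SplitCellLib.Closed
import Groth.Agent.SplitCellLib.UnipFibre
import Groth.Agent.BorelLib.RedUnipMax
import Groth.Agent.BorelLib.RedBridge

/-!
# Points of a geometric fibre of a split group

Points over the algebraically closed field as points of the coordinate ring of the fibre; a point over an algebra
of finite type gives a morphism of varieties.
-/

set_option autoImplicit false
set_option linter.style.haveILetI false
set_option linter.unusedSectionVars false
set_option backward.isDefEq.respectTransparency false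
set_option maxHeartbeats 1000000
set_option synthInstance.maxHeartbeats 400000

universe u

open CategoryTheory CategoryTheory.Limits MonoidalCategory CartesianMonoidalCategory AlgebraicGeometry WithConv
open scoped MonObj
open CoactBr (sp)
open Groth.Agent.BorelLib
open Groth.Agent.HomRep (bcEquiv bcEquiv_mul)

noncomputable section

attribute [-instance] CategoryTheory.Hom.commGroup

namespace SplitFib

attribute [local instance] pTop pTopTensor

variable {S : Scheme.{u}} {G : Over S} [GrpObj G] {K : Type u} [Field K] (a : Spec (CommRingCat.of K) ⟶ S)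
  {A : Type u} [CommRing A] [HopfAlgebra K A] (v : sp K A ≅ Red.bc a G)

section Family

variable {R R' : Type u} [CommRing R] [Algebra K R] [CommRing R'] [Algebra K R']

/-- An affine point over the field, seen over the base. -/
def sR (R : Type u) [CommRing R] [Algebra K R] : (Over.map a).obj (sp K R) ≅ SplitCell.aP a R :=
  Over.isoMk (Iso.refl _) (Category.id_comp _)

theorem sR_natural (φ : R →ₐ[K] R') :
    (sR a R').inv ≫ (Over.map a).map (CoactBr.pt φ) = SplitCell.aM a φ ≫ (sR a R).inv :=
  Over.OverMorphism.ext (by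
    show 𝟙 _ ≫ Spec.map _ = Spec.map _ ≫ 𝟙 _
    rw [Category.id_comp, Category.comp_id]
    rfl)

/-- The algebra map of a point. -/
def ptR (x : SplitCell.aP a R ⟶ G) : A →ₐ[K] R :=
  (Groth.Agent.DiagRep.exists_pt (bcEquiv a G (sp K R) ((sR a R).hom ≫ x) ≫ v.inv)).choose

theorem pt_ptR (x : SplitCell.aP a R ⟶ G) :
    CoactBr.pt (ptR a v x) = bcEquiv a G (sp K R) ((sR a R).hom ≫ x) ≫ v.inv :=
  (Groth.Agent.DiagRep.exists_pt (bcEquiv a G (sp K R) ((sR a R).hom ≫ x) ≫ v.inv)).choose_spec.symm

theorem ptR_comp (φ : R →ₐ[K] R') (x : SplitCell.aP a R ⟶ G) :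
    ptR a v (SplitCell.aM a φ ≫ x) = φ.comp (ptR a v x) := by
  refine CoactBr.pt_injective ?_
  rw [CoactBr.pt_comp, pt_ptR, pt_ptR, ← Category.assoc (CoactBr.pt φ)]
  congr 1
  refine Eq.trans ?_ ((Over.mapPullbackAdj a).homEquiv_naturality_left (CoactBr.pt φ) ((sR a R).hom ≫ x))
  show bcEquiv a G (sp K R') _ = bcEquiv a G (sp K R') _
  congr 1
theorem ptR_injective : Function.Injective (ptR a v (R := R)) := fun x y h => by
  have h1 := congrArg CoactBr.pt h
  rw [pt_ptR, pt_ptR, cancel_mono] at h1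
  exact (cancel_epi (sR a R).hom).1 ((bcEquiv a G (sp K R)).injective h1)

theorem exists_ptR (φ : A →ₐ[K] R) : ∃ x : SplitCell.aP a R ⟶ G, ptR a v x = φ := by
  refine ⟨(sR a R).inv ≫ (bcEquiv a G (sp K R)).symm (CoactBr.pt φ ≫ v.hom), CoactBr.pt_injective ?_⟩
  rw [pt_ptR, Iso.hom_inv_id_assoc, Equiv.apply_symm_apply, Category.assoc, Iso.hom_inv_id, Category.comp_id]

end Family

variable [IsAlgClosed K] [IsMonHom v.hom]

/-- The point of the coordinate ring. -/
def ptC (x : SplitCell.aP a K ⟶ G) : Pt K A := toConv (ptR a v x)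

theorem toRPt_ptC (x : SplitCell.aP a K ⟶ G) :
    toRPt v (ptC a v x) =
      Groth.Agent.HopfPoints.exists_unit_hom.some ≫ bcEquiv a G (sp K K) ((sR a K).hom ≫ x) := by
  rw [toRPt]
  congr 1
  show CoactBr.pt (ptR a v x) ≫ v.hom = _
  rw [pt_ptR, Category.assoc, Iso.inv_hom_id, Category.comp_id]

/-- The group of points over the field is the group of points of the coordinate ring. -/
def ptG : (SplitCell.aP a K ⟶ G) ≃* Pt K A :=
  MulEquiv.mk' (Equiv.ofBijective (ptC a v)
    ⟨fun _ _ h => ptR_injective a v (congrArg WithConv.ofConv h), fun p => by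
      obtain ⟨x, hx⟩ := exists_ptR a v p.ofConv
      exact ⟨x, congrArg toConv hx⟩⟩) fun x y => by
    refine (toRPt_bijective v).1 ?_
    show toRPt v (ptC a v (x * y)) = toRPt v (ptC a v x * ptC a v y)
    rw [toRPt_mul, toRPt_ptC, toRPt_ptC, toRPt_ptC, ← MonObj.comp_mul, ← bcEquiv_mul, ← MonObj.comp_mul]

theorem ptG_aM {R : Type u} [CommRing R] [Algebra K R] (ψ : R →ₐ[K] K) (P : SplitCell.aP a R ⟶ G) :
    ptG a v (SplitCell.aM a ψ ≫ P) = pull (ptR a v P) (toConv ψ) :=
  congrArg toConv (ptR_comp a v ψ P)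

/-- **A point over an algebra is a morphism of varieties.** -/
theorem isMor_family {R : Type u} [CommRing R] [Algebra K R] (P : SplitCell.aP a R ⟶ G) :
    IsMor fun x : Pt K R => ptG a v (SplitCell.aM a x.ofConv ≫ P) :=
  ⟨ptR a v P, fun x => ptG_aM a v x.ofConv P⟩

theorem ptEquiv_ptG (x : SplitCell.aP a K ⟶ G) :
    ptEquiv v (ptG a v x) =
      Groth.Agent.HopfPoints.exists_unit_hom.some ≫ bcEquiv a G (sp K K) ((sR a K).hom ≫ x) :=
  toRPt_ptC a v x

/-- The points of the base change of a subgroup. -/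
theorem mem_ptsSub_bc {H : Over S} [GrpObj H] (i : H ⟶ G) [IsMonHom i] (x : SplitCell.aP a K ⟶ G) :
    haveI := Groth.Agent.DiagRep.isMonHom_bc_map a i
    ptG a v x ∈ ptsSub v ((Over.pullback a).map i) ↔ ∃ h : SplitCell.aP a K ⟶ H, h ≫ i = x := by
  haveI := Groth.Agent.DiagRep.isMonHom_bc_map a i
  obtain ⟨w, hw⟩ : ∃ w : sp K K ⟶ 𝟙_ (Over (Spec (CommRingCat.of K))),
      w ≫ Groth.Agent.HopfPoints.exists_unit_hom.some = 𝟙 _ := ⟨toUnit _, by
    haveI : IsIso (sp K K).hom := by
      change IsIso (Spec.map (CommRingCat.ofHom (algebraMap K K)))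
      rw [show CommRingCat.ofHom (algebraMap K K) = 𝟙 _ from rfl]
      infer_instance
    refine Over.OverMorphism.ext ?_
    rw [← cancel_mono (sp K K).hom, Over.w, Over.id_left, Category.id_comp]⟩
  rw [mem_ptsSub, ptEquiv_ptG]
  constructor
  · rintro ⟨b, hb⟩
    refine ⟨(sR a K).inv ≫ (bcEquiv a H (sp K K)).symm (w ≫ b), ?_⟩
    rw [← cancel_epi (sR a K).hom, Category.assoc, Iso.hom_inv_id_assoc]
    apply (bcEquiv a G (sp K K)).injective
    rw [show bcEquiv a G (sp K K) ((bcEquiv a H (sp K K)).symm (w ≫ b) ≫ i) =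
      bcEquiv a H (sp K K) ((bcEquiv a H (sp K K)).symm (w ≫ b)) ≫ (Over.pullback a).map i from
      (Over.mapPullbackAdj a).homEquiv_naturality_right _ _, Equiv.apply_symm_apply, Category.assoc, hb,
      ← Category.assoc, hw, Category.id_comp]
  · rintro ⟨h, rfl⟩
    refine ⟨Groth.Agent.HopfPoints.exists_unit_hom.some ≫ bcEquiv a H (sp K K) ((sR a K).hom ≫ h), ?_⟩
    rw [Category.assoc, ← Category.assoc ((sR a K).hom)]
    congr 1
    exact ((Over.mapPullbackAdj a).homEquiv_naturality_right _ _).symm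

end SplitFib

end
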