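import Groth.Agent.SplitFibLib.RankOne

/-!
# A line carries at most one root on each side
-/

set_option autoImplicit false
set_option linter.style.haveILetI false
set_option linter.unusedSectionVars false
set_option backward.isDefEq.respectTransparency false
set_option maxHeartbeats 1000000
set_option synthInstance.maxHeartbeats 400000

universe u

open CategoryTheory CategoryTheory.Limits MonoidalCategory CartesianMonoidalCategory AlgebraicGeometry WithConv
open scoped MonObj LaurentPolynomial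
open CoactBr (sp)
open Groth.Agent.BorelLib

noncomputable section

attribute [-instance] CategoryTheory.Hom.commGroup

namespace SplitFib

attribute [local instance] pTop pTopTensor

open SplitCell

variable {S : Scheme.{u}} {G : Over S} [GrpObj G] {D : Red.SplitRed G} {K : Type u} [Field K] [IsAlgClosed K]
  (a : Spec (CommRingCat.of K) ⟶ S) {A : Type u} [CommRing A] [HopfAlgebra K A]
  (v : sp K A ≅ Red.bc a G) [IsMonHom v.hom] [Algebra.FiniteType K A] [_root_.IsReduced A]
  [IsAffine (Red.bc a G).left] [Smooth (Red.bc a G).hom]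

/-- A character of the torus given by a regular function is monomial along a cocharacter. -/
theorem exists_exponent {χ : Pt K A → K} (hχ : IsReg χ) (h1 : χ 1 = 1)
    (hmul : ∀ s ∈ Tsub D a v, ∀ t ∈ Tsub D a v, χ (s * t) = χ s * χ t) (f : D.M →ₗ[ℤ] ℤ) :
    ∃ N : ℤ, ∀ z : Kˣ, χ (torusHom D a v (tc D a f z)) = ((z ^ N : Kˣ) : K) := by
  obtain ⟨r, hr⟩ := hχ.comp (isMor_fam a v (cochFam D a f))
  obtain ⟨s, hs⟩ := hχ.comp ((IsMor.id.inv).comp (isMor_fam a v (cochFam D a f)))
  dsimp only at hr hs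
  have hrs : r * s = 1 := by
    refine sub_eq_zero.1 (eq_zero_of_forall (k := K) fun x => ?_)
    rw [map_sub, map_mul, map_one, sub_eq_zero, ← hr x, ← hs x]
    obtain ⟨z, rfl⟩ := exists_gmPt x
    rw [fam_cochFam, ← hmul _ ⟨_, rfl⟩ _ (inv_mem ⟨_, rfl⟩), mul_inv_cancel, h1]
  obtain ⟨c, N, hN⟩ := exists_monomial (IsUnit.of_mul_eq_one (a := r) s hrs)
  have key : ∀ z : Kˣ, χ (torusHom D a v (tc D a f z)) = c * ((z ^ N : Kˣ) : K) := fun z => by
    rw [← fam_cochFam, hr (gmPt z), hN]
    show evT (R := K) z (_ * _) = _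
    rw [map_mul, evT_C, evT_T]
  have hc : c = 1 := by
    have := key 1
    rw [show torusHom D a v (tc D a f 1) = 1 from map_one (tcHom D a v f), h1] at this
    simpa using this.symm
  exact ⟨N, fun z => by rw [key z, hc, _root_.one_mul]⟩

variable {W : Type u} [AddCommGroup W] [Module K W] [FiniteDimensional K W]

omit [IsAffine (Red.bc a G).left] in
/-- The extreme component of a vector whose translates lie in a closed cone. -/
theorem mem_of_scaling {ι₀ : Type u} [Fintype ι₀] (bs : Module.Basis ι₀ K W) {Y : Set (Pt K (VPoly K W))}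
    (hY : IsClosed Y) (hcone : ∀ y ∈ Y, ∀ c : K, vp (k := K) (c • pv (V := W) y) ∈ Y) (x : ι₀ → K) (σ : ι₀ → ℤ)
    (h : ∀ z : Kˣ, vp (k := K) (∑ i, (((z ^ σ i : Kˣ) : K) * x i) • bs i) ∈ Y) (J : ℤ)
    (hJ : ∀ i, x i ≠ 0 → J ≤ σ i) :
    vp (k := K) (∑ i, (if σ i = J then x i else 0) • bs i) ∈ Y := by
  classical
  let Φ : Pt K (Polynomial K) → W := fun p => ∑ i, (lineCoord p ^ (σ i - J).toNat * x i) • bs i
  have hΦ : IsMor fun p => vp (k := K) (Φ p) := isMor_vp fun φ => by
    simp only [Φ, map_sum, map_smul, smul_eq_mul]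
    refine IsReg.sum _ fun i _ => ((?_ : IsReg _).mul (IsReg.const (x i))).mul (IsReg.const _)
    exact ⟨Polynomial.X ^ (σ i - J).toNat, fun p => (map_pow p.ofConv Polynomial.X _).symm⟩
  have h0 : vp (k := K) (Φ (linePt 0)) ∈ Y := by
    refine mem_of_units (K := K) (hY.preimage hΦ.continuous) (fun z => ?_) (linePt 0)
    show vp (k := K) (Φ (linePt (z : K))) ∈ Y
    have := hcone _ (h z) ((z ^ (-J) : Kˣ) : K)
    rw [pv_vp, Finset.smul_sum] at this
    convert this using 3 with i
    rw [lineCoord_linePt, smul_smul]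
    by_cases hx : x i = 0
    · simp [hx]
    congr 1
    obtain ⟨d, hd⟩ := Int.eq_ofNat_of_zero_le (sub_nonneg.2 (hJ i hx))
    rw [hd, Int.toNat_natCast, ← _root_.mul_assoc, ← Units.val_mul, ← zpow_add, show -J + σ i = d by omega,
      zpow_natCast, Units.val_pow_eq_pow_val]
  convert h0 using 3 with i
  rw [lineCoord_linePt]
  congr 1
  by_cases hx : x i = 0
  · simp [hx]
  have := hJ i hx
  by_cases he : σ i = J
  · rw [if_pos he, show (σ i - J).toNat = 0 by omega, pow_zero, _root_.one_mul]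
  · rw [if_neg he, zero_pow (by omega), zero_mul]

variable (L : Line D) (b : Sides D.P)
variable (hconn : _root_.IsPreconnected (Set.univ : Set (Pt K A))) (hred : IsRedPts K A)
  (hT : IsMaxTor ⊤ (Tsub D a v))
include hconn hred hT

/-- **A line has at most one root on each side.** -/
theorem eq_of_mem_line_neg {k₁ k₂ : D.idx} (hk₁ : k₁ ∈ L.roots ∩ b.neg) (hk₂ : k₂ ∈ L.roots ∩ b.neg) : k₁ = k₂ := by
  classical
  by_contra hne
  obtain ⟨l, e, he⟩ := exists_enumerates (L.roots ∩ b.neg)
  obtain ⟨i₁, hi₁⟩ := he.2.symm.subset hk₁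
  obtain ⟨i₂, hi₂⟩ := he.2.symm.subset hk₂
  have hi : i₁ ≠ i₂ := fun h => hne (by rw [← hi₁, ← hi₂, h])
  have hmem : ∀ i, e i ∈ L.roots ∧ e i ∈ b.neg := fun i => he.2.subset (Set.mem_range_self i)
  obtain ⟨f, hf, hfp, -⟩ := exists_reg L (flipSides b)
  have hfχ : f L.χ ≠ 0 := fun h => by
    have := hfp _ hk₁.1 hk₁.2
    rw [hf _ hk₁.1, h, zero_mul] at this
    exact lt_irrefl _ this
  obtain ⟨g₀, hg₀⟩ := exists_flip a v L hT hk₁.1
  obtain ⟨n, m, eneg, epos, hneg, hpos⟩ := exists_enum D b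
  obtain ⟨B, hB, hTB, hUB'⟩ := exists_bor_pos a v b hconn hT hpos
  have hUB : rootSub D a v (L.roots ∩ b.pos) ≤ B := (rootSub_mono D a v Set.inter_subset_right).trans hUB'
  have hbot := eq_one_of_mem_bor a v L b hconn hred hT hB hTB hUB
  obtain ⟨hCc, hCp⟩ := Cen_facts a v L hconn hT
  have hBC := isBor_inf_Cen a v L hconn hT hB hTB
  obtain ⟨W, _, _, _, r, w, hw, hst, -, -⟩ := hB.exists_cone_rep hconn
  have hstab : ∀ g ∈ B, ∃ c : K, r.ρ g w = c • w := fun g hg => (hst.symm.le hg).2
  set r' := r.mono (le_top : Cen a v L ≤ ⊤) with hr'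
  have hcone : IsClosed (r'.cone w) := r'.isClosed_cone_of_complete hCc (hBC.complete hCc hCp) hw
    fun g hg => ⟨hg.2, hstab g hg.1⟩
  obtain ⟨ι₀, _, bs, χ, hχ, hbs⟩ := hT.tor.exists_weight_basis r
  have hχ1 : ∀ i, χ i 1 = 1 := fun i => by
    have := hbs i 1 (one_mem _)
    rw [r.map_one, Module.End.one_apply] at this
    exact smul_left_injective K (bs.ne_zero i) (by simpa using this.symm)
  have hχm : ∀ i, ∀ s ∈ Tsub D a v, ∀ t ∈ Tsub D a v, χ i (s * t) = χ i s * χ i t := fun i s hs t ht => by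
    have := hbs i _ (mul_mem hs ht)
    rw [r.mul_apply trivial trivial, hbs i t ht, map_smul, hbs i s hs, smul_smul] at this
    exact (smul_left_injective K (bs.ne_zero i) this).symm.trans (_root_.mul_comm _ _)
  choose α hα using fun i => exists_exponent a v (hχ i) (hχ1 i) (hχm i) f
  have hcoord : ∀ (t : Pt K A), t ∈ Tsub D a v → ∀ u : W, ∀ i, bs.repr (r.ρ t u) i = χ i t * bs.repr u i := by
    intro t ht u i
    conv_lhs => rw [← bs.sum_repr u]
    simp only [map_sum, map_smul, hbs _ t ht, smul_smul]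
    rw [Finsupp.finsetSum_apply, Finset.sum_eq_single i]
    · simp [_root_.mul_comm]
    · intro j _ hj; simp [Finsupp.single_eq_of_ne, hj]
    · simp
  -- eigenvectors of the torus have a weight
  have hweight : ∀ u : W, (∀ t ∈ Tsub D a v, ∃ c : K, r.ρ t u = c • u) → ∀ i j, bs.repr u i ≠ 0 →
      bs.repr u j ≠ 0 → α i = α j := by
    intro u hu i j hui huj
    by_contra hne'
    obtain ⟨z, hz⟩ := exists_units_zpow_ne_one K (sub_ne_zero.2 hne')
    obtain ⟨c, hc⟩ := hu _ ⟨tc D a f z, rfl⟩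
    have key : ∀ i, bs.repr u i ≠ 0 → ((z ^ α i : Kˣ) : K) = c := fun i hi => by
      have := hcoord _ ⟨tc D a f z, rfl⟩ u i
      rw [hc, map_smul, Finsupp.smul_apply, smul_eq_mul, hα] at this
      exact (mul_right_cancel₀ hi this).symm
    exact hz (by rw [zpow_sub, Units.ext ((key i hui).trans (key j huj).symm), mul_inv_cancel])
  have hweig : ∀ g, conjSub g⁻¹ (Tsub D a v) ≤ B → ∀ t ∈ Tsub D a v, ∃ c : K, r.ρ t (r.ρ g w) = c • r.ρ g w := by
    intro g hg t ht
    refine (r.mem_conjSub_lineStab g t).1 ?_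
    rw [hst, mem_conjSub]
    refine hg ?_
    rw [mem_conjSub, inv_inv]
    simpa [_root_.mul_assoc] using ht
  have hw1 : ∀ t ∈ Tsub D a v, ∃ c : K, r.ρ t w = c • w := fun t ht => hstab t (hTB ht)
  obtain ⟨j₀, hj₀⟩ : ∃ j, bs.repr w j ≠ 0 := by
    by_contra h
    push Not at h
    exact hw (bs.ext_elem fun i => by simpa using h i)
  have hw₂ := hweig g₀ (by rw [hg₀.inv.norm]; exact hTB)
  obtain ⟨i₀, hi₀⟩ : ∃ i, bs.repr (r.ρ g₀ w) i ≠ 0 := by
    by_contra h
    push Not at h
    exact r.apply_ne_zero (g := g₀) trivial hw (bs.ext_elem fun i => by simpa using h i)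
  -- the orbit map
  let u : (Fin l → K) → W := fun y => r.ρ (uPe D a v e y) w
  have huC : ∀ y, uPe D a v e y ∈ Cen a v L := fun y =>
    rootSub_le_Cen a v L (s := L.roots ∩ b.neg) Set.inter_subset_left (uPe_mem_rootSub D a v fun i _ => hmem i)
  have hwl : ∀ i, 0 < f (D.P.root (e i)) := fun i => hfp _ (hmem i).1 (hmem i).2
  have hinj : ∀ y y', u y' = u y → y' = y := by
    intro y y' hy
    have h1 : (uPe D a v e y)⁻¹ * uPe D a v e y' ∈ B ⊓ rootSub D a v (L.roots ∩ b.neg) := by
      refine ⟨hst.le ⟨trivial, 1, ?_⟩, (rootSub D a v _).mul_mem ((rootSub D a v _).inv_mem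
        (uPe_mem_rootSub D a v fun i _ => hmem i)) (uPe_mem_rootSub D a v fun i _ => hmem i)⟩
      rw [r.mul_apply trivial trivial, one_smul]
      exact (congrArg (r.ρ (uPe D a v e y)⁻¹) hy).trans (r.inv_apply trivial w)
    rw [hbot, Subgroup.mem_bot, inv_mul_eq_one] at h1
    haveI : ∀ k, IsMonHom ((fun k => D.u (e k)) k) := fun k => isMonHom_u D _
    haveI : ∀ k, Mono ((fun k => D.u (e k)) k) := fun k => mono_u D _
    haveI := isAffineHom_hom D
    obtain ⟨g, hg⟩ := exists_injective_functional (fun k => D.P.root k) D.P.root.injective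
    exact pe_injective a (hasWeights_coch D f e) hwl (hasWeights_coch D g e) (hg.comp he.1)
      ((ptG a v).injective h1.symm)
  have hscale : ∀ (y : Fin l → K) (z : Kˣ) (i : ι₀),
      bs.repr (u fun k => ((z ^ f (D.P.root (e k)) : Kˣ) : K) * y k) i =
        ((z ^ (α i - α j₀) : Kˣ) : K) * bs.repr (u y) i := by
    intro y z i
    have hs : torusHom D a v (tc D a f z) ∈ Tsub D a v := ⟨_, rfl⟩
    obtain ⟨c, hc⟩ := hw1 _ hs
    have hc' : c = ((z ^ α j₀ : Kˣ) : K) := by
      have := hcoord _ hs w j₀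
      rw [hc, map_smul, Finsupp.smul_apply, smul_eq_mul, hα] at this
      exact mul_right_cancel₀ hj₀ this
    have h1 := hcoord _ hs (u y) i
    have h2 : r.ρ (torusHom D a v (tc D a f z)) (u y) =
        c • u fun k => ((z ^ f (D.P.root (e k)) : Kˣ) : K) * y k := by
      have hh : torusHom D a v (tc D a f z) * uPe D a v e y =
          uPe D a v e (fun k => ((z ^ f (D.P.root (e k)) : Kˣ) : K) * y k) * torusHom D a v (tc D a f z) := by
        rw [← mul_inv_eq_iff_eq_mul, conj_uPe]
        simp only [ch_cochT]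
      rw [← r.mul_apply trivial trivial, hh, r.mul_apply trivial trivial, hc, map_smul]
    rw [h2, map_smul, Finsupp.smul_apply, smul_eq_mul, hα, hc'] at h1
    rw [zpow_sub, Units.val_mul, Units.val_inv_eq_inv_val]
    have : ((z ^ α j₀ : Kˣ) : K) ≠ 0 := (z ^ α j₀).ne_zero
    field_simp
    linear_combination h1
  -- the extreme components
  have hext : ∀ (y : Fin l → K) (s : ℤ) (J : ℤ), s ≠ 0 → (∀ i, bs.repr (u y) i ≠ 0 → J ≤ s * (α i - α j₀)) →
      (∃ i, bs.repr (u y) i ≠ 0 ∧ s * (α i - α j₀) = J) →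
        J = 0 ∨ (bs.repr (u y) i₀ ≠ 0 ∧ s * (α i₀ - α j₀) = J) := by
    intro y s J hs0 hJ ⟨i, hi, hiJ⟩
    have hmemcone : ∀ c : K, ∀ g ∈ Cen a v L, vp (k := K) (c • r.ρ g w) ∈ r'.cone w :=
      fun c g hg => ⟨g, hg, c, by rw [pv_vp]; rfl⟩
    have h1 := mem_of_scaling (K := K) bs hcone (fun y hy c => r'.cone_smul hy c) (fun i => bs.repr (u y) i)
      (fun i => s * (α i - α j₀)) (fun z => by
        rw [show (∑ i, (((z ^ (s * (α i - α j₀)) : Kˣ) : K) * bs.repr (u y) i) • bs i) =
          u fun k => (((z ^ s) ^ f (D.P.root (e k)) : Kˣ) : K) * y k from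
            (Finset.sum_congr rfl fun i _ => by rw [hscale, zpow_mul]).trans (bs.sum_repr _)]
        simpa using hmemcone 1 _ (huC _)) J hJ
    obtain ⟨g, hg, c, hc⟩ := h1
    rw [pv_vp] at hc
    change _ = c • r.ρ g w at hc
    have hcoo : ∀ j, c * bs.repr (r.ρ g w) j = if s * (α j - α j₀) = J then bs.repr (u y) j else 0 := fun j => by
      have := congrArg (fun x => bs.repr x j) hc
      simp only [bs.repr_sum_self, map_smul, Finsupp.smul_apply, smul_eq_mul] at this
      exact this.symm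
    have hc0 : c ≠ 0 := fun h => hi (by have := hcoo i; rw [h, zero_mul, if_pos hiJ] at this; exact this.symm)
    -- the component is an eigenvector of the torus
    have heig : ∀ t ∈ Tsub D a v, ∃ d : K, r.ρ t (r.ρ g w) = d • r.ρ g w := by
      rintro _ ⟨t, rfl⟩
      obtain ⟨z, hz⟩ := exists_units_pow_eq (ch D a t (Multiplicative.ofAdd L.χ)) (n := (f L.χ).natAbs)
        (by omega)
      obtain ⟨z', hz'⟩ : ∃ z' : Kˣ, z' ^ f L.χ = ch D a t (Multiplicative.ofAdd L.χ) := by
        rcases Int.natAbs_eq (f L.χ) with h | h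
        · exact ⟨z, by rw [h, zpow_natCast, hz]⟩
        · exact ⟨z⁻¹, by rw [h, zpow_neg, zpow_natCast, inv_pow, inv_inv, hz]⟩
      let t₁ := t * (tc D a f z')⁻¹
      have hs : torusHom D a v t₁ ∈ Sker a v L := mem_Sker a v L (by
        have h := ch_mul D a t₁ (tc D a f z')
        rw [inv_mul_cancel_right] at h
        have h' := DFunLike.congr_fun h (Multiplicative.ofAdd L.χ)
        rw [MonoidHom.mul_apply, ch_cochT, hz', right_eq_mul] at h'
        exact h')
      obtain ⟨d₁, hd₁⟩ := hw1 _ (Sker_le a v L hs)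
      have hsg := Subgroup.mem_centralizer_iff.1 hg _ hs
      refine ⟨((z' ^ α i : Kˣ) : K) * d₁, ?_⟩
      have h2 : r.ρ (torusHom D a v t₁) (r.ρ g w) = d₁ • r.ρ g w := by
        rw [← r.mul_apply trivial trivial, hsg, r.mul_apply trivial trivial, hd₁, map_smul]
      have h3 : r.ρ (torusHom D a v (tc D a f z')) (r.ρ g w) = ((z' ^ α i : Kˣ) : K) • r.ρ g w := by
        refine bs.ext_elem fun j => ?_
        rw [hcoord _ ⟨_, rfl⟩, hα, map_smul, Finsupp.smul_apply, smul_eq_mul]
        by_cases hj : bs.repr (r.ρ g w) j = 0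
        · rw [hj, mul_zero, mul_zero]
        have hjJ : s * (α j - α j₀) = J := by
          by_contra hjJ
          have := hcoo j
          rw [if_neg hjJ] at this
          exact mul_ne_zero hc0 hj this
        have hαij : α j = α i := by
          have := mul_left_cancel₀ hs0 (hjJ.trans hiJ.symm)
          omega
        rw [hαij]
      rw [show torusHom D a v t = torusHom D a v (tc D a f z') * torusHom D a v t₁ by
          rw [← map_mul, torus_comm, inv_mul_cancel_right],
        r.mul_apply trivial trivial, h2, map_smul, h3, smul_smul, _root_.mul_comm]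
    -- conjugacy of the maximal tori in the Borel subgroup of the centraliser
    have hle : conjSub g⁻¹ (Tsub D a v) ≤ B ⊓ Cen a v L := le_inf (by
      intro x hx
      rw [mem_conjSub, inv_inv] at hx
      have h := (r.mem_conjSub_lineStab g _).2 (heig _ hx)
      rw [hst, mem_conjSub] at h
      simpa [_root_.mul_assoc] using h)
      (conjSub_le (inv_mem hg) (Tsub_le_Cen a v L))
    have hmax : IsMaxTor (B ⊓ Cen a v L) (Tsub D a v) :=
      ⟨le_inf hTB (Tsub_le_Cen a v L), hT.tor, fun T' _ h hle => hT.maximal T' le_top h hle⟩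
    obtain ⟨x, hx, hxT⟩ := hmax.exists_conj_le hBC.closed hBC.conn hle (hT.tor.conjSub _)
    rw [conjSub_conjSub] at hxT
    have hnorm : conjSub (x * g⁻¹) (Tsub D a v) = Tsub D a v := by
      have h3 : Tsub D a v ≤ conjSub (x * g⁻¹)⁻¹ (Tsub D a v) := by
        have := conjSub_mono (a := (x * g⁻¹)⁻¹) hxT
        rwa [conjSub_conjSub, inv_mul_cancel, conjSub_one] at this
      have h4 := hT.maximal _ le_top (hT.tor.conjSub (x * g⁻¹)⁻¹) h3
      conv_lhs => rw [← h4, conjSub_conjSub, mul_inv_cancel, conjSub_one]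
    have hcent := hred.centralizer_eq hconn hT
    obtain ⟨g₁, hg₁, hg₁'⟩ : ∃ g₁ : Pt K A, (g₁ = 1 ∨ g₁ = g₀) ∧ ∃ b' ∈ B, g = g₁ * b' := by
      rcases mem_or_isFlip a v L hT.tor hcent ((Cen a v L).mul_mem hx.2 (inv_mem hg)) hnorm with h | h
      · exact ⟨1, Or.inl rfl, (x * g⁻¹)⁻¹ * x, B.mul_mem (B.inv_mem (hTB h)) hx.1, by group⟩
      · refine ⟨g₀, Or.inr rfl, g₀⁻¹ * g, ?_, by group⟩
        have hτ : x * g⁻¹ * g₀ ∈ Tsub D a v := by
          refine (mem_or_isFlip a v L hT.tor hcent ((Cen a v L).mul_mem h.mem hg₀.mem) ?_).resolve_right fun h' => ?_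
          · rw [← conjSub_conjSub, hg₀.norm, h.norm]
          · obtain ⟨z, hz⟩ := exists_units_zpow_ne_one K (N := 2) (by decide)
            let t := tc D a L.co z
            obtain ⟨t', ht'⟩ := hg₀.norm.le ⟨_, ⟨t, rfl⟩, rfl⟩
            obtain ⟨t'', ht''⟩ := h.norm.le ⟨_, ⟨t', rfl⟩, rfl⟩
            have e1 := hg₀.neg t t' ht'.symm
            have e2 := h.neg t' t'' ht''.symm
            have e3 := h'.neg t t'' (by
              rw [ht'']
              show x * g⁻¹ * g₀ * torusHom D a v t * (x * g⁻¹ * g₀)⁻¹ =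
                x * g⁻¹ * torusHom D a v t' * (x * g⁻¹)⁻¹
              rw [ht']
              show _ = x * g⁻¹ * (g₀ * torusHom D a v t * g₀⁻¹) * (x * g⁻¹)⁻¹
              group)
            rw [e2, e1, inv_inv, ch_cochT, L.co_χ, zpow_one] at e3
            refine hz ?_
            rw [show (2 : ℤ) = 1 + 1 from rfl, zpow_add, zpow_one]
            nth_rewrite 1 [e3]
            exact inv_mul_cancel z
        rw [show g₀⁻¹ * g = (x * g⁻¹ * g₀)⁻¹ * x by group]
        exact B.mul_mem (B.inv_mem (hTB hτ)) hx.1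
    obtain ⟨b', hb', rfl⟩ := hg₁'
    obtain ⟨d, hd⟩ := hstab b' hb'
    have hd0 : d ≠ 0 := fun h => r.apply_ne_zero (g := b') trivial hw (by rw [hd, h, zero_smul])
    have hval : r.ρ (g₁ * b') w = d • r.ρ g₁ w := by rw [r.mul_apply trivial trivial, hd, map_smul]
    rw [hval] at hcoo
    rcases hg₁ with h₁ | h₁ <;> rw [h₁] at hcoo
    · left
      have := hcoo j₀
      rw [r.map_one, Module.End.one_apply, map_smul, Finsupp.smul_apply, smul_eq_mul] at this
      by_contra hJ0
      rw [if_neg (by rw [sub_self, mul_zero]; exact fun h => hJ0 h.symm)] at this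
      exact mul_ne_zero hc0 (mul_ne_zero hd0 hj₀) this
    · right
      have := hcoo i₀
      rw [map_smul, Finsupp.smul_apply, smul_eq_mul] at this
      have hne0 : c * (d * bs.repr (r.ρ g₀ w) i₀) ≠ 0 := mul_ne_zero hc0 (mul_ne_zero hd0 hi₀)
      by_cases hJi : s * (α i₀ - α j₀) = J
      · rw [if_pos hJi] at this
        exact ⟨this ▸ hne0, hJi⟩
      · rw [if_neg hJi] at this
        exact absurd this hne0
  -- the coordinate at the flip never vanishes
  have hnonzero : ∀ y, y ≠ 0 → bs.repr (u y) i₀ ≠ 0 ∧ α i₀ ≠ α j₀ := by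
    intro y hy
    let T₀ := Finset.univ.filter fun i => bs.repr (u y) i ≠ 0
    have hne₀ : T₀.Nonempty := by
      by_contra h
      refine r.apply_ne_zero (g := uPe D a v e y) trivial hw (bs.ext_elem fun i => ?_)
      rw [map_zero, Finsupp.zero_apply]
      by_contra hi
      exact h ⟨i, Finset.mem_filter.2 ⟨Finset.mem_univ _, hi⟩⟩
    obtain ⟨p, hp, hpmin⟩ := T₀.exists_min_image (fun i => α i) hne₀
    obtain ⟨q, hq, hqmax⟩ := T₀.exists_max_image (fun i => α i) hne₀
    rw [Finset.mem_filter] at hp hq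
    have hmin := hext y 1 (α p - α j₀) one_ne_zero (fun i hi => by
      have := hpmin i (Finset.mem_filter.2 ⟨Finset.mem_univ _, hi⟩)
      omega) ⟨p, hp.2, _root_.one_mul _⟩
    have hmax := hext y (-1) (α j₀ - α q) (by decide) (fun i hi => by
      have := hqmax i (Finset.mem_filter.2 ⟨Finset.mem_univ _, hi⟩)
      omega) ⟨q, hq.2, by ring⟩
    by_cases hall : α p = α j₀ ∧ α q = α j₀
    · refine absurd ?_ hy
      funext k
      obtain ⟨z, hz⟩ := exists_units_zpow_ne_one K (hwl k).ne'
      have hfix : u (fun k => ((z ^ f (D.P.root (e k)) : Kˣ) : K) * y k) = u y := bs.ext_elem fun i => by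
        rw [hscale]
        by_cases hi : bs.repr (u y) i = 0
        · rw [hi, mul_zero]
        have h1 := hpmin i (Finset.mem_filter.2 ⟨Finset.mem_univ _, hi⟩)
        have h2 := hqmax i (Finset.mem_filter.2 ⟨Finset.mem_univ _, hi⟩)
        rw [show α i - α j₀ = 0 by omega, zpow_zero, Units.val_one, _root_.one_mul]
      have h4 := congrFun (hinj _ _ hfix) k
      by_contra hk
      exact hz (Units.ext (mul_right_cancel₀ hk (h4.trans (_root_.one_mul _).symm)))
    · rcases not_and_or.1 hall with h | h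
      · obtain ⟨h1, h2⟩ := hmin.resolve_left (by omega)
        exact ⟨h1, by omega⟩
      · obtain ⟨h1, h2⟩ := hmax.resolve_left (by omega)
        exact ⟨h1, by omega⟩
  -- a regular function on the plane vanishing at the origin only
  haveI : Infinite K := IsAlgClosed.instInfinite
  have hreg : ∀ c : Fin l → Polynomial K, ∃ p : Polynomial K, ∀ x : K,
      bs.repr (u fun i => (c i).eval x) i₀ = p.eval x := fun c => by
    obtain ⟨p, hp⟩ := (r.reg (bs.coord i₀) w).comp (isMor_fam a v (pe a (fun i => D.u (e i)) c))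
    refine ⟨p, fun x => ?_⟩
    have := hp (linePt x)
    dsimp only at this
    rw [fam_pe] at this
    simp only [linePt, ofConv_toConv, Polynomial.coe_aeval_eq_eval, Module.Basis.coord_apply] at this
    exact this
  let pt : K → K → Fin l → K := fun x z i => if i = i₁ then x else if i = i₂ then z else 0
  have hpt : ∀ x z, x ≠ 0 ∨ z ≠ 0 → pt x z ≠ 0 := fun x z h h0 => by
    rcases h with h | h
    · exact h (by simpa [pt] using congrFun h0 i₁)
    · exact h (by simpa [pt, hi.symm] using congrFun h0 i₂)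
  have hC : ∀ (x z : K) (i : Fin l), (if i = i₁ then Polynomial.C x else if i = i₂ then Polynomial.X else 0 :
      Polynomial K).eval z = pt x z i := fun x z i => by
    simp only [pt]; split_ifs <;> simp
  have hconst : ∀ z : K, z ≠ 0 → bs.repr (u (pt 1 z)) i₀ = bs.repr (u (pt 0 z)) i₀ := fun z hz => by
    obtain ⟨p, hp⟩ := hreg fun i => if i = i₁ then Polynomial.X else if i = i₂ then Polynomial.C z else 0
    have hp' : ∀ x, bs.repr (u (pt x z)) i₀ = p.eval x := fun x => by
      rw [← hp x]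
      congr 3
      funext i
      simp only [pt]; split_ifs <;> simp
    rw [hp', hp']
    by_cases hdeg : p.degree = 0
    · rw [Polynomial.eq_C_of_degree_eq_zero hdeg, Polynomial.eval_C, Polynomial.eval_C]
    · obtain ⟨x, hx⟩ := IsAlgClosed.exists_root p hdeg
      exact absurd ((hp' x).trans hx) (hnonzero _ (hpt x z (Or.inr hz))).1
  obtain ⟨p₁, hp₁⟩ := hreg fun i => if i = i₁ then Polynomial.C 1 else if i = i₂ then Polynomial.X else 0
  obtain ⟨p₀, hp₀⟩ := hreg fun i => if i = i₁ then Polynomial.C 0 else if i = i₂ then Polynomial.X else 0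
  simp only [hC] at hp₁ hp₀
  have heq : p₁ = p₀ := eq_at_zero fun z => by rw [← hp₁, ← hp₀]; exact hconst _ z.ne_zero
  obtain ⟨hA, hB'⟩ := hnonzero _ (hpt 1 0 (Or.inl one_ne_zero))
  refine hA ?_
  rw [hp₁, heq, ← hp₀, show pt 0 0 = 0 from funext fun i => by simp [pt]]
  by_contra hne0
  refine hB' (hweight w hw1 i₀ j₀ ?_ hj₀)
  have hu0 : u 0 = w := by
    show r.ρ (uPe D a v e 0) w = w
    rw [uPe_zero, r.map_one, Module.End.one_apply]
  rw [hu0] at hne0
  exact hne0

end SplitFib

end
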