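import Groth.Agent.SplitFibLib.RootSub

/-!
# The centraliser of the kernel of a primitive character and its Weyl group
-/

set_option autoImplicit false
set_option linter.style.haveILetI false
set_option linter.unusedSectionVars false
set_option backward.isDefEq.respectTransparency false
set_option maxHeartbeats 1000000
set_option synthInstance.maxHeartbeats 400000

universe u

open CategoryTheory CategoryTheory.Limits MonoidalCategory CartesianMonoidalCategory AlgebraicGeometry WithConv
open scoped MonObj LaurentPolynomial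
open CoactBr (sp)
open Groth.Agent.BorelLib

noncomputable section

attribute [-instance] CategoryTheory.Hom.commGroup

namespace SplitFib

attribute [local instance] pTop pTopTensor

open SplitCell

variable {S : Scheme.{u}} {G : Over S} [GrpObj G] (D : Red.SplitRed G) {K : Type u} [Field K] [IsAlgClosed K]
  (a : Spec (CommRingCat.of K) ⟶ S) {A : Type u} [CommRing A] [HopfAlgebra K A]
  (v : sp K A ≅ Red.bc a G) [IsMonHom v.hom]

/-- A primitive character, with a functional. -/
structure Line where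
  /-- the character -/
  χ : D.M
  /-- the functional -/
  co : D.M →ₗ[ℤ] ℤ
  co_χ : co χ = 1

variable {D}

/-- The roots proportional to the character. -/
def Line.roots (L : Line D) : Set D.idx := {k | D.P.root k = L.co (D.P.root k) • L.χ}

/-- The weight of a root of the line is not zero. -/
theorem Line.weight_ne_zero (L : Line D) {k : D.idx} (hk : k ∈ L.roots) : L.co (D.P.root k) ≠ 0 := fun h => by
  have hk' : D.P.root k = L.co (D.P.root k) • L.χ := hk
  rw [h, zero_smul] at hk'
  exact D.P.ne_zero k hk'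

/-- A non-zero power is not constant. -/
theorem exists_units_zpow_ne_one (K : Type u) [Field K] [IsAlgClosed K] {N : ℤ} (hN : N ≠ 0) :
    ∃ z : Kˣ, z ^ N ≠ 1 := by
  by_contra h
  push Not at h
  have hn : N.natAbs ≠ 0 := by omega
  have h0 : (Polynomial.X ^ N.natAbs - 1 : Polynomial K) * Polynomial.X = 0 := Polynomial.funext fun x => by
    rcases eq_or_ne x 0 with rfl | hx
    · simp
    · have h1 : (Units.mk0 x hx) ^ N.natAbs = 1 := by
        rcases Int.natAbs_eq N with e | e
        · rw [← zpow_natCast, ← e]; exact h _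
        · rw [← inv_inj, ← zpow_natCast, ← zpow_neg, ← e, inv_one]; exact h _
      have h2 := congrArg Units.val h1
      rw [Units.val_pow_eq_pow_val, Units.val_mk0, Units.val_one] at h2
      simp [h2]
  have h1 : (Polynomial.X ^ N.natAbs - 1 : Polynomial K) ≠ 0 := fun h1 => by
    simpa [zero_pow hn] using congrArg (Polynomial.eval 0) h1
  exact mul_ne_zero h1 Polynomial.X_ne_zero h0

/-- Units of an algebraically closed field have roots. -/
theorem exists_units_pow_eq {K : Type u} [Field K] [IsAlgClosed K] (z : Kˣ) {n : ℕ} (hn : n ≠ 0) :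
    ∃ w : Kˣ, w ^ n = z := by
  obtain ⟨w, hw⟩ := IsAlgClosed.exists_pow_nat_eq (z : K) (Nat.pos_of_ne_zero hn)
  exact ⟨Units.mk0 w fun h => z.ne_zero (by rw [← hw, h, zero_pow hn]), Units.ext (by simpa using hw)⟩

variable (D)

/-- The line of a root. -/
theorem exists_line (k₀ : D.idx) : ∃ L : Line D, k₀ ∈ L.roots := by
  classical
  let B := Module.finBasis ℤ D.M
  let I : Ideal ℤ := LinearMap.range (LinearMap.applyₗ (R := ℤ) (D.P.root k₀) : (D.M →ₗ[ℤ] ℤ) →ₗ[ℤ] ℤ)
  obtain ⟨d, hd⟩ : ∃ d, I = Ideal.span {d} := (IsPrincipalIdealRing.principal I).principal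
  have hdvd : ∀ f : D.M →ₗ[ℤ] ℤ, d ∣ f (D.P.root k₀) := fun f =>
    Ideal.mem_span_singleton.1 (hd ▸ (⟨f, rfl⟩ : f (D.P.root k₀) ∈ I))
  choose q hq using fun i => hdvd (B.coord i)
  obtain ⟨f₀, hf₀⟩ : ∃ f₀ : D.M →ₗ[ℤ] ℤ, f₀ (D.P.root k₀) = d := by
    have : d ∈ I := hd ▸ Ideal.mem_span_singleton_self d
    exact this
  let χ := ∑ i, q i • B i
  have hroot : D.P.root k₀ = d • χ := by
    rw [Finset.smul_sum]
    conv_lhs => rw [← B.sum_repr (D.P.root k₀)]
    refine Finset.sum_congr rfl fun i _ => ?_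
    rw [smul_smul, ← hq i]
    rfl
  have hd0 : d ≠ 0 := fun h => D.P.ne_zero k₀ (by rw [hroot, h, zero_smul])
  have hone : f₀ χ = 1 := by
    have h := congrArg f₀ hroot
    rw [hf₀, map_zsmul, smul_eq_mul] at h
    exact mul_left_cancel₀ hd0 (h.symm.trans (_root_.mul_one d).symm)
  exact ⟨⟨χ, f₀, hone⟩, by
    show D.P.root k₀ = f₀ (D.P.root k₀) • χ
    rw [hf₀]; exact hroot⟩

variable {D}

/-- A root dependent on a root of the line is on it. -/
theorem Line.mem_of_dependent (L : Line D) {i j : D.idx} (hi : i ∈ L.roots)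
    (h : ¬ LinearIndependent ℤ ![D.P.root i, D.P.root j]) : j ∈ L.roots := by
  rw [LinearIndependent.pair_iff] at h
  push Not at h
  obtain ⟨p, q, hpq, hne⟩ := h
  have hi' : D.P.root i = L.co (D.P.root i) • L.χ := hi
  have hq : q ≠ 0 := fun h0 => by
    rw [h0, zero_smul, add_zero, smul_eq_zero] at hpq
    exact hne (hpq.resolve_right (D.P.ne_zero i)) h0
  have h1 : q • D.P.root j = (-(p * L.co (D.P.root i))) • L.χ := by
    rw [eq_neg_of_add_eq_zero_right hpq, hi', smul_smul, neg_smul, ← hi']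
  have h2 := congrArg L.co h1
  rw [map_zsmul, map_zsmul, L.co_χ, smul_eq_mul, smul_eq_mul, _root_.mul_one] at h2
  rw [← h2, mul_smul] at h1
  exact smul_right_injective D.M hq h1

variable (L : Line D)

/-- The kernel of the character on the torus. -/
def Sker : Subgroup (Pt K A) :=
  Subgroup.closure {x | ∃ f : D.M →ₗ[ℤ] ℤ, f L.χ = 0 ∧ ∃ z, x = torusHom D a v (tc D a f z)}

/-- The centraliser of the kernel. -/
def Cen : Subgroup (Pt K A) := Subgroup.centralizer (Sker a v L : Set (Pt K A))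

variable (D) in
/-- The cocharacter as a homomorphism. -/
def tcHom (f : D.M →ₗ[ℤ] ℤ) : Kˣ →* Pt K A :=
  (torusHom D a v).comp (MonoidHom.mk' (tc D a f) (tc_mul D a f))

theorem Sker_le : Sker a v L ≤ Tsub D a v :=
  (Subgroup.closure_le _).2 fun _ ⟨_, _, z, hz⟩ => hz ▸ ⟨_, rfl⟩

theorem mem_Cen_iff {g : Pt K A} : g ∈ Cen a v L ↔ ∀ f : D.M →ₗ[ℤ] ℤ, f L.χ = 0 → ∀ z,
    torusHom D a v (tc D a f z) * g = g * torusHom D a v (tc D a f z) := by
  constructor
  · exact fun h f hf z => Subgroup.mem_centralizer_iff.1 h _ (Subgroup.subset_closure ⟨f, hf, z, rfl⟩)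
  · refine fun h => Subgroup.mem_centralizer_iff.2 fun s hs => ?_
    induction hs using Subgroup.closure_induction with
    | mem x hx => obtain ⟨f, hf, z, rfl⟩ := hx; exact h f hf z
    | one => rw [_root_.one_mul, _root_.mul_one]
    | mul x y _ _ hx hy => rw [_root_.mul_assoc, hy, ← _root_.mul_assoc, hx, _root_.mul_assoc]
    | inv x _ hx => exact (Commute.inv_left hx).eq

/-- A point of the torus is a point of the kernel times a value of the cocharacter. -/
theorem exists_split (t : aP a K ⟶ D.T) : ∃ s ∈ Sker a v L,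
    torusHom D a v t = s * torusHom D a v (tc D a L.co (ch D a t (Multiplicative.ofAdd L.χ))) := by
  obtain ⟨n, f, z, hf, ht⟩ := exists_decomp D a L.χ L.co L.co_χ t
  refine ⟨torusHom D a v (List.ofFn fun i => tc D a (f i) (z i)).prod, ?_, ?_⟩
  · rw [map_list_prod, List.map_ofFn]
    refine Subgroup.list_prod_mem _ fun x hx => ?_
    obtain ⟨i, rfl⟩ := List.mem_ofFn.1 hx
    exact Subgroup.subset_closure ⟨f i, hf i, z i, rfl⟩
  · rw [← map_mul, ← ht]

theorem mem_Sker {t : aP a K ⟶ D.T} (h : ch D a t (Multiplicative.ofAdd L.χ) = 1) :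
    torusHom D a v t ∈ Sker a v L := by
  obtain ⟨s, hs, e⟩ := exists_split a v L t
  have h1 : torusHom D a v (tc D a L.co 1) = 1 := map_one (tcHom D a v L.co)
  rw [e, h, h1, _root_.mul_one]
  exact hs

theorem Tsub_le_Cen : Tsub D a v ≤ Cen a v L := by
  rintro _ ⟨t, rfl⟩
  refine (mem_Cen_iff a v L).2 fun f _ z => ?_
  rw [← map_mul, ← map_mul, torus_comm]

/-- The root groups of the line centralise the kernel. -/
theorem rootSub_le_Cen {s : Set D.idx} (hs : s ⊆ L.roots) : rootSub D a v s ≤ Cen a v L := by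
  refine (Subgroup.closure_le _).2 ?_
  rintro _ ⟨k, hk, r, rfl⟩
  refine (mem_Cen_iff a v L).2 fun f hf z => mul_inv_eq_iff_eq_mul.1 ?_
  rw [conj_uEl, ch_cochT, show D.P.root k = L.co (D.P.root k) • L.χ from hs hk, map_zsmul, hf, smul_zero, zpow_zero,
    Units.val_one, _root_.one_mul]

/-- A flip of the line: it normalises the torus and inverts the character. -/
structure IsFlip (g : Pt K A) : Prop where
  mem : g ∈ Cen a v L
  norm : conjSub g (Tsub D a v) = Tsub D a v
  neg : ∀ t t', g * torusHom D a v t * g⁻¹ = torusHom D a v t' →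
    ch D a t' (Multiplicative.ofAdd L.χ) = (ch D a t (Multiplicative.ofAdd L.χ))⁻¹

theorem IsFlip.inv {g : Pt K A} (h : IsFlip a v L g) : IsFlip a v L g⁻¹ := by
  refine ⟨inv_mem h.mem, ?_, fun t t' e => ?_⟩
  · conv_lhs => rw [← h.norm, conjSub_conjSub, inv_mul_cancel, conjSub_one]
  · have e' : g * torusHom D a v t' * g⁻¹ = torusHom D a v t := by rw [← e]; group
    rw [h.neg t' t e', inv_inv]

/-- A reflection gives a flip. -/
theorem exists_flip (hT : IsMaxTor ⊤ (Tsub D a v)) {k : D.idx} (hk : k ∈ L.roots) : ∃ g, IsFlip a v L g := by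
  obtain ⟨n, hn⟩ := D.refl k
  let g := ptG a v (toUnit (aP a K) ≫ n)
  have key : ∀ t, ∃ t', g * torusHom D a v t * g⁻¹ = torusHom D a v t' ∧
      ∀ m, ch D a t' (Multiplicative.ofAdd m) = ch D a t (Multiplicative.ofAdd (D.P.reflection k m)) := fun t => by
    refine ⟨t ≫ D.split.hom.hom.hom ≫ Red.DSmap S (D.P.reflection k).toLinearMap.toAddMonoidHom ≫
      D.split.inv.hom.hom, ?_, fun m => ?_⟩
    · show ptG a v _ * ptG a v (t ≫ D.i) * (ptG a v _)⁻¹ = ptG a v (_ ≫ D.i)
      rw [← map_inv, ← map_mul, ← map_mul, hn]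
      simp only [Category.assoc]
    · refine Units.ext ((cst_bijective a).1 ?_)
      rw [cst_ch, cst_ch]
      have e : D.split.inv.hom.hom ≫ D.split.hom.hom.hom = 𝟙 _ := by
        change (D.split.inv ≫ D.split.hom).hom.hom = _
        rw [D.split.inv_hom_id]; rfl
      simp only [Category.assoc, reassoc_of% e]
      rw [← Category.assoc t, ← Category.assoc (t ≫ _), gmFn_chi, ← Category.assoc t D.split.hom.hom.hom, gmFn_chi]
      conv_lhs => rw [← MultSubLib.dsPt_chars (t ≫ D.split.hom.hom.hom), KummerExactLib.dsPt_DSmap,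
        MultSubLib.chars_dsPt]
      rfl
  have hχ : D.P.reflection k L.χ = -L.χ := by
    have h1 := D.P.reflection_apply_self k
    rw [show D.P.root k = L.co (D.P.root k) • L.χ from hk, map_zsmul, ← smul_neg] at h1
    exact smul_right_injective D.M (L.weight_ne_zero hk) h1
  have hle : conjSub g (Tsub D a v) ≤ Tsub D a v := by
    rintro _ ⟨_, ⟨t, rfl⟩, rfl⟩
    obtain ⟨t', h, -⟩ := key t
    exact ⟨t', h.symm⟩
  have hnorm : conjSub g (Tsub D a v) = Tsub D a v := by
    have h1 : Tsub D a v ≤ conjSub g⁻¹ (Tsub D a v) := by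
      have := conjSub_mono (a := g⁻¹) hle
      rwa [conjSub_conjSub, inv_mul_cancel, conjSub_one] at this
    have h2 := hT.maximal _ le_top (hT.tor.conjSub g⁻¹) h1
    conv_lhs => rw [← h2, conjSub_conjSub, mul_inv_cancel, conjSub_one]
  refine ⟨g, (mem_Cen_iff a v L).2 fun f hf z => ?_, hnorm, fun t t' e => ?_⟩
  · obtain ⟨t', h, h'⟩ := key (tc D a f z)
    have : t' = tc D a f z := ch_injective D a (MonoidHom.ext fun m => by
      obtain ⟨m, rfl⟩ := Multiplicative.ofAdd.surjective m
      rw [h', ch_cochT, ch_cochT, D.P.reflection_apply, map_sub, map_smul,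
        show D.P.root k = L.co (D.P.root k) • L.χ from hk, map_zsmul, hf, smul_zero, smul_zero, sub_zero])
    rw [this] at h
    exact (mul_inv_eq_iff_eq_mul.1 h).symm
  · obtain ⟨t₀, h, h'⟩ := key t
    rw [torusHom_injective D a v (e.symm.trans h), h', hχ]
    exact map_inv (ch D a t) (Multiplicative.ofAdd L.χ)

variable [Algebra.FiniteType K A] [IsAffine (Red.bc a G).left] [Smooth (Red.bc a G).hom]

omit [Smooth (Red.bc a G).hom] in
/-- A power of an element normalising the torus centralises it. -/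
theorem exists_pow_centralizes (hT : IsTor (Tsub D a v)) {g : Pt K A}
    (hg : conjSub g (Tsub D a v) = Tsub D a v) : ∃ N : ℕ, N ≠ 0 ∧ ∀ s ∈ Tsub D a v, g ^ N * s = s * g ^ N := by
  let P : Subgroup (Pt K A) :=
    { carrier := {h | conjSub h (Tsub D a v) = Tsub D a v}
      one_mem' := conjSub_one _
      mul_mem' := fun {x y} hx hy => by
        show conjSub (x * y) _ = _
        rw [← conjSub_conjSub, show conjSub y (Tsub D a v) = _ from hy]
        exact hx
      inv_mem' := fun {x} hx => by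
        show conjSub x⁻¹ _ = _
        conv_lhs => rw [← (show conjSub x (Tsub D a v) = _ from hx), conjSub_conjSub, inv_mul_cancel, conjSub_one] }
  have hPc : IsClosed (P : Set (Pt K A)) := by
    have e : (P : Set (Pt K A)) = ⋂ s ∈ (Tsub D a v : Set (Pt K A)),
        (fun h => h * s * h⁻¹) ⁻¹' (Tsub D a v : Set (Pt K A)) ∩ (fun h => h⁻¹ * s * h) ⁻¹' (Tsub D a v : Set (Pt K A)) := by
      ext h
      simp only [Set.mem_iInter₂, Set.mem_inter_iff, Set.mem_preimage, SetLike.mem_coe]
      constructor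
      · intro hh s hs
        refine ⟨(show conjSub h (Tsub D a v) = _ from hh).le ⟨s, hs, rfl⟩, ?_⟩
        rw [← mem_conjSub, show conjSub h (Tsub D a v) = _ from hh]
        exact hs
      · intro hh
        refine le_antisymm ?_ fun s hs => mem_conjSub.2 (hh s hs).2
        rintro _ ⟨s, hs, rfl⟩
        exact (hh s hs).1
    rw [e]
    exact isClosed_biInter fun s _ => (hT.closed.preimage ((IsMor.id.mul (IsMor.const s)).mul IsMor.id.inv).continuous).inter
      (hT.closed.preimage ((IsMor.id.inv.mul (IsMor.const s)).mul IsMor.id).continuous)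
  obtain ⟨F, -, hcov⟩ := exists_neut_cosets hPc
  have hc : ∀ n : ℕ, ∃ r : F, (r : Pt K A)⁻¹ * g ^ n ∈ neut P := fun n => by
    obtain ⟨r, hr, h⟩ := hcov _ (P.pow_mem hg n)
    exact ⟨⟨r, hr⟩, h⟩
  choose r hr using hc
  obtain ⟨i, j, hij, he⟩ := Finite.exists_ne_map_eq_of_infinite r
  wlog hlt : i < j generalizing i j with H
  · exact H j i hij.symm he.symm (lt_of_le_of_ne (not_lt.1 hlt) hij.symm)
  refine ⟨j - i, (Nat.sub_pos_of_lt hlt).ne', fun s hs => ?_⟩
  have h' := (neut P).mul_mem ((neut P).inv_mem (hr i)) (hr j)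
  rw [he, mul_inv_rev, inv_inv, _root_.mul_assoc, mul_inv_cancel_left,
    show (g ^ i)⁻¹ * g ^ j = g ^ (j - i) by rw [pow_sub g hlt.le, ((Commute.pow_pow_self g j i).inv_right).eq]] at h'
  refine hT.commute_of_normalizing (isPreconnected_neut P) (fun h hh s hs => ?_) _ h' s hs
  exact (show conjSub h (Tsub D a v) = _ from neut_le P hh).le ⟨s, hs, rfl⟩

/-- **The Weyl group of the line has two elements.** -/
theorem mem_or_isFlip (hT : IsTor (Tsub D a v))
    (hcent : Subgroup.centralizer (Tsub D a v : Set (Pt K A)) = Tsub D a v) {g : Pt K A}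
    (hg : g ∈ Cen a v L) (hn : conjSub g (Tsub D a v) = Tsub D a v) : g ∈ Tsub D a v ∨ IsFlip a v L g := by
  -- the action on the character
  have hmap : ∀ h : Pt K A, conjSub h (Tsub D a v) = Tsub D a v → ∀ t, ∃ t', h * torusHom D a v t * h⁻¹ =
      torusHom D a v t' := fun h hh t => by
    obtain ⟨t', ht'⟩ := hh.le ⟨_, ⟨t, rfl⟩, rfl⟩
    exact ⟨t', ht'.symm⟩
  have hN : ∀ h : Pt K A, h ∈ Cen a v L → conjSub h (Tsub D a v) = Tsub D a v → ∃ N : ℤ, ∀ t t',
      h * torusHom D a v t * h⁻¹ = torusHom D a v t' →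
        ch D a t' (Multiplicative.ofAdd L.χ) = ch D a t (Multiplicative.ofAdd L.χ) ^ N := by
    intro h hhC hh
    obtain ⟨τ, hτ⟩ := exists_torus_coord D a v (cfam a v h * cochFam D a L.co * (cfam a v h)⁻¹) fun x => by
      obtain ⟨z, rfl⟩ := exists_gmPt x
      rw [fam_mul, fam_mul, fam_inv, fam_cfam, fam_cochFam]
      exact hh.le ⟨_, ⟨_, rfl⟩, rfl⟩
    have hval : ∀ z t', h * torusHom D a v (tc D a L.co z) * h⁻¹ = torusHom D a v t' →
        t' = aM a (gmPt z).ofConv ≫ τ := fun z t' e => by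
      have := hτ (gmPt z)
      rw [fam_mul, fam_mul, fam_inv, fam_cfam, fam_cochFam] at this
      exact torusHom_injective D a v (e.symm.trans this)
    have h1 : torusHom D a v (tc D a L.co 1) = 1 := map_one (tcHom D a v L.co)
    obtain ⟨N, hN⟩ := exists_zpow D a τ L.χ (by
      rw [← hval 1 1 (by rw [h1, map_one, _root_.mul_one, mul_inv_cancel]), ch_one]; rfl)
    refine ⟨N, fun t t' e => ?_⟩
    obtain ⟨s, hs, hst⟩ := exists_split a v L t
    obtain ⟨t₂, ht₂⟩ := hmap h hh (tc D a L.co (ch D a t (Multiplicative.ofAdd L.χ)))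
    obtain ⟨t₁, rfl⟩ := Sker_le a v L hs
    have hcomm := Subgroup.mem_centralizer_iff.1 hhC _ hs
    have e' : torusHom D a v t' = torusHom D a v (t₁ * t₂) := by
      rw [← e, hst, map_mul, ← ht₂, ← _root_.mul_assoc h, ← hcomm]
      group
    have hs1 : ch D a t₁ (Multiplicative.ofAdd L.χ) = 1 := by
      have h2 := congrArg (fun g => g) hst
      have h3 : t = t₁ * tc D a L.co (ch D a t (Multiplicative.ofAdd L.χ)) :=
        torusHom_injective D a v (hst.trans (map_mul _ _ _).symm)
      have h4 := congrArg (fun t => ch D a t (Multiplicative.ofAdd L.χ)) h3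
      simp only [ch_mul, MonoidHom.mul_apply] at h4
      rw [ch_cochT, L.co_χ, zpow_one, right_eq_mul] at h4
      exact h4
    rw [torusHom_injective D a v e', ch_mul, MonoidHom.mul_apply, hs1, _root_.one_mul, hval _ _ ht₂]
    exact hN _
  obtain ⟨N, hN₁⟩ := hN g hg hn
  obtain ⟨N', hN₂⟩ := hN g⁻¹ (inv_mem hg) (by
    conv_lhs => rw [← hn, conjSub_conjSub, inv_mul_cancel, conjSub_one])
  have hinv : ∀ z : Kˣ, z ^ (N * N') = z := fun z => by
    obtain ⟨t', ht'⟩ := hmap g hn (tc D a L.co z)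
    have h1 := hN₁ _ _ ht'
    have h2 := hN₂ t' (tc D a L.co z) (by rw [← ht']; group)
    rw [h1, ch_cochT, L.co_χ, zpow_one, ← zpow_mul] at h2
    exact h2.symm
  have hNN : N * N' = 1 := by
    by_contra hne
    obtain ⟨z, hz⟩ := exists_units_zpow_ne_one K (sub_ne_zero.2 hne)
    exact hz (by rw [zpow_sub, hinv, zpow_one, mul_inv_cancel])
  rcases Int.eq_one_or_neg_one_of_mul_eq_one hNN with rfl | rfl
  · left
    obtain ⟨n, hn0, hpow⟩ := exists_pow_centralizes a v hT hn
    rw [← hcent]
    refine Subgroup.mem_centralizer_iff.2 ?_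
    rintro _ ⟨t, rfl⟩
    obtain ⟨s, hs, hst⟩ := exists_split a v L t
    have hsg := Subgroup.mem_centralizer_iff.1 hg _ hs
    suffices key : ∀ z, Commute g (tcHom D a v L.co z) by
      rw [hst, _root_.mul_assoc, show torusHom D a v (tc D a L.co _) * g = g * _ from (key _).eq.symm,
        ← _root_.mul_assoc, hsg, _root_.mul_assoc]
      rfl
    intro z
    obtain ⟨w, hw⟩ := exists_units_pow_eq z hn0
    subst hw
    obtain ⟨t', ht'⟩ := hmap g hn (tc D a L.co w)
    have h1 := hN₁ _ _ ht'
    rw [zpow_one] at h1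
    obtain ⟨s', hs', hst'⟩ := exists_split a v L t'
    rw [h1, ch_cochT, L.co_χ, zpow_one] at hst'
    set c := tcHom D a v L.co w with hc
    have hgc : g * c * g⁻¹ = s' * c := ht'.trans hst'
    have hcs : Commute s' c := hT.comm _ (Sker_le a v L hs') _ ⟨_, rfl⟩
    have hs'g : Commute g s' := (Subgroup.mem_centralizer_iff.1 hg _ hs').symm
    have hiter : ∀ j : ℕ, g ^ j * c * (g ^ j)⁻¹ = s' ^ j * c := by
      intro j
      induction j with
      | zero => simp
      | succ j ih =>
        calc g ^ (j + 1) * c * (g ^ (j + 1))⁻¹ = g * (g ^ j * c * (g ^ j)⁻¹) * g⁻¹ := by rw [pow_succ']; group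
          _ = g * (s' ^ j * c) * g⁻¹ := by rw [ih]
          _ = s' ^ j * (g * c * g⁻¹) := by rw [← _root_.mul_assoc, (hs'g.pow_right j).eq]; group
          _ = _ := by rw [hgc, ← _root_.mul_assoc, ← pow_succ]
    have hsn : s' ^ n = 1 := by
      have h2 := hiter n
      rw [hpow c ⟨_, rfl⟩, mul_inv_cancel_right] at h2
      exact left_eq_mul.1 (h2.trans (by rw [(hcs.pow_left n).eq]))
    show g * tcHom D a v L.co (w ^ n) = tcHom D a v L.co (w ^ n) * g
    refine mul_inv_eq_iff_eq_mul.1 ?_
    rw [map_pow, ← conj_pow, hgc, hcs.mul_pow, hsn, _root_.one_mul]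
  · right
    exact ⟨hg, hn, fun t t' e => by rw [hN₁ t t' e, zpow_neg, zpow_one]⟩

end SplitFib

end
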