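import Groth.Agent.RankOneLib.Points
import Groth.Agent.BigCellLib.Pts
import Mathlib

/-!
# Functions on affine spaces over a scheme given locally by polynomials of bounded degree
-/

set_option autoImplicit false
set_option linter.style.haveILetI false
set_option linter.unusedSectionVars false
set_option backward.isDefEq.respectTransparency false
set_option maxHeartbeats 1000000

universe u

open CategoryTheory CategoryTheory.Limits AlgebraicGeometry Opposite
open Groth.Agent.GaPts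
open Groth.Agent.RankOne (eq_ptOf comp_ptOf)

noncomputable section

namespace SplitFib

variable {S : Scheme.{u}} {σ : Type}

/-- A function on the affine space is given by a polynomial over an open. -/
def IsPolyOn (U : S.Opens) (Φ : ∀ Y : Over S, (σ → (Y ⟶ Red.Ga S)) → Γ(Y.left, ⊤))
    (C : MvPolynomial σ Γ(S, U)) : Prop :=
  ∀ (Y : Over S) (h : ⊤ ≤ Y.hom ⁻¹ᵁ U) (v : σ → (Y ⟶ Red.Ga S)),
    Φ Y v = MvPolynomial.eval₂ (Y.hom.appLE U ⊤ h).hom (fun j => Red.gaFn (v j)) C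

variable {Φ : ∀ Y : Over S, (σ → (Y ⟶ Red.Ga S)) → Γ(Y.left, ⊤)}

theorem IsPolyOn.map {U V : S.Opens} (hVU : V ≤ U) {C : MvPolynomial σ Γ(S, U)} (hC : IsPolyOn U Φ C) :
    IsPolyOn V Φ (MvPolynomial.map (S.presheaf.map (homOfLE hVU).op).hom C) := by
  intro Y h v
  rw [hC Y (fun x hx => hVU (h hx)) v, MvPolynomial.eval₂_map, ← CommRingCat.hom_comp, Scheme.Hom.map_appLE]

/-- Restriction along a morphism of points commutes with evaluation. -/
theorem eval₂_naturality {U : S.Opens} {Y Y' : Over S} (g : Y' ⟶ Y) (h : ⊤ ≤ Y.hom ⁻¹ᵁ U) (h' : ⊤ ≤ Y'.hom ⁻¹ᵁ U)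
    (v : σ → (Y ⟶ Red.Ga S)) (C : MvPolynomial σ Γ(S, U)) :
    g.left.appTop (MvPolynomial.eval₂ (Y.hom.appLE U ⊤ h).hom (fun j => Red.gaFn (v j)) C) =
      MvPolynomial.eval₂ (Y'.hom.appLE U ⊤ h').hom (fun j => Red.gaFn (g ≫ v j)) C := by
  have e : Y.hom.appLE U ⊤ h ≫ g.left.appTop = Y'.hom.appLE U ⊤ h' := by
    rw [show g.left.appTop = g.left.appLE ⊤ ⊤ le_rfl from (Scheme.Hom.appLE_eq_app g.left).symm,
      Scheme.Hom.appLE_comp_appLE]
    congr 1
    exact Over.w g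
  show g.left.appTop.hom _ = _
  rw [MvPolynomial.eval₂_comp_left, ← CommRingCat.hom_comp, e]
  congr 1

/-- The universal point over an affine open. -/
def polyPt {V : S.Opens} (hV : IsAffineOpen V) : Over S :=
  Over.mk (Spec.map (CommRingCat.ofHom (MvPolynomial.C : Γ(S, V) →+* MvPolynomial σ Γ(S, V))) ≫ hV.fromSpec)

theorem le_polyPt {V : S.Opens} (hV : IsAffineOpen V) : ⊤ ≤ (polyPt (σ := σ) hV).hom ⁻¹ᵁ V := by
  intro x _
  show hV.fromSpec (Spec.map (CommRingCat.ofHom (MvPolynomial.C : Γ(S, V) →+* MvPolynomial σ Γ(S, V))) x) ∈ (V : Set S)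
  rw [← hV.range_fromSpec]
  exact Set.mem_range_self _

theorem appLE_polyPt {V : S.Opens} (hV : IsAffineOpen V) :
    (polyPt (σ := σ) hV).hom.appLE V ⊤ (le_polyPt hV) =
      CommRingCat.ofHom (MvPolynomial.C : Γ(S, V) →+* MvPolynomial σ Γ(S, V)) ≫ (Scheme.ΓSpecIso _).inv := by
  haveI : IsAffine (polyPt (σ := σ) hV).left := inferInstanceAs (IsAffine (Spec _))
  refine Spec.map_injective ((cancel_mono hV.fromSpec).1 ?_)
  rw [hV.SpecMap_appLE_fromSpec _ (isAffineOpen_top _), IsAffineOpen.fromSpec_top, Spec.map_comp, Category.assoc]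
  show (Spec _).isoSpec.inv ≫ _ = _
  rw [Scheme.isoSpec_Spec_inv]
  rfl

theorem eval₂_aux {A B : Type*} [CommRing A] [CommRing B] {τ : Type*} (e : MvPolynomial τ A →+* B)
    (P : MvPolynomial τ A) :
    MvPolynomial.eval₂ (e.comp MvPolynomial.C) (fun j => e (MvPolynomial.X j)) P = e P := by
  conv_rhs => rw [← MvPolynomial.eval₂_eta P, MvPolynomial.eval₂_comp_left]
  rfl

/-- **The polynomial of a function is unique.** -/
theorem IsPolyOn.unique {U : S.Opens} {C C' : MvPolynomial σ Γ(S, U)} (hC : IsPolyOn U Φ C) (hC' : IsPolyOn U Φ C') :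
    C = C' := by
  refine MvPolynomial.ext _ _ fun d => ?_
  refine TopCat.Sheaf.eq_of_locally_eq' S.sheaf (fun V : {V : S.affineOpens // V.1 ≤ U} => V.1.1) U
    (fun V => homOfLE V.2) (fun x hx => ?_) _ _ fun V => ?_
  · obtain ⟨_, ⟨W, hW, rfl⟩, hxW, hWU⟩ := S.isBasis_affineOpens.exists_subset_of_mem_open hx U.2
    exact TopologicalSpace.Opens.mem_iSup.2 ⟨⟨⟨W, hW⟩, hWU⟩, hxW⟩
  · obtain ⟨⟨W, hW⟩, hWU⟩ := V
    have h1 := (hC.map hWU (polyPt hW) (le_polyPt hW) fun j => ptOf ((Scheme.ΓSpecIso _).inv (MvPolynomial.X j))).symm.trans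
      (hC'.map hWU (polyPt hW) (le_polyPt hW) fun j => ptOf ((Scheme.ΓSpecIso _).inv (MvPolynomial.X j)))
    simp only [gaFn_ptOf, appLE_polyPt] at h1
    rw [CommRingCat.hom_comp, CommRingCat.hom_ofHom] at h1
    have h1 := (eval₂_aux _ _).symm.trans (h1.trans (eval₂_aux _ _))
    have h2 := congrArg (MvPolynomial.coeff d) ((ConcreteCategory.bijective_of_isIso (Scheme.ΓSpecIso _).inv).1 h1)
    rw [MvPolynomial.coeff_map, MvPolynomial.coeff_map] at h2
    exact h2

/-- **A function given locally by polynomials with exponents in a finite set is given by one polynomial.** -/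
theorem exists_isPolyOn_top (hΦ : ∀ {Y Y' : Over S} (g : Y' ⟶ Y) (v : σ → (Y ⟶ Red.Ga S)),
      g.left.appTop (Φ Y v) = Φ Y' fun j => g ≫ v j) (F : Finset (σ →₀ ℕ))
    (hloc : ∀ U : S.affineOpens, ∃ C : MvPolynomial σ Γ(S, U.1), IsPolyOn U.1 Φ C ∧ C.support ⊆ F) :
    ∃ Q : MvPolynomial σ Γ(S, ⊤), IsPolyOn ⊤ Φ Q ∧ Q.support ⊆ F := by
  classical
  choose C hC hsupp using hloc
  have hcompat : ∀ d, TopCat.Presheaf.IsCompatible S.sheaf.1 (fun U : S.affineOpens => U.1) fun U => (C U).coeff d := by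
    intro d U U'
    have h := congrArg (MvPolynomial.coeff d) (((hC U).map (inf_le_left (b := U'.1))).unique
      ((hC U').map (inf_le_right (a := U.1))))
    rwa [MvPolynomial.coeff_map, MvPolynomial.coeff_map] at h
  choose c hc hcu using fun d => TopCat.Sheaf.existsUnique_gluing' S.sheaf (fun U : S.affineOpens => U.1) ⊤
    (fun U => homOfLE le_top) (iSup_affineOpens_eq_top S).ge _ (hcompat d)
  let Q : MvPolynomial σ Γ(S, ⊤) := ∑ d ∈ F, MvPolynomial.monomial d (c d)
  have hQ : ∀ U : S.affineOpens, MvPolynomial.map (S.presheaf.map (homOfLE (le_top : U.1 ≤ ⊤)).op).hom Q = C U := by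
    intro U
    have h1 : ∀ d, (S.presheaf.map (homOfLE (le_top : U.1 ≤ ⊤)).op).hom (c d) = (C U).coeff d := fun d => hc d U
    refine MvPolynomial.ext _ _ fun d => ?_
    simp only [Q, map_sum, MvPolynomial.map_monomial, MvPolynomial.coeff_sum, MvPolynomial.coeff_monomial, h1,
      Finset.sum_ite_eq']
    split_ifs with hd
    · rfl
    · exact (MvPolynomial.notMem_support_iff.1 fun h => hd (hsupp U h)).symm
  refine ⟨Q, fun Y h v => ?_, fun d hd => ?_⟩
  · refine (gaFn_ptOf _).symm.trans ((congrArg Red.gaFn ?_).trans (gaFn_ptOf _))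
    refine Groth.Agent.BigCell.eq_of_affine fun Y' π _ => ?_
    rw [comp_ptOf, comp_ptOf, hΦ, eval₂_naturality π h (by simp)]
    refine congrArg ptOf ?_
    -- an open cover of the base
    refine (gaFn_ptOf (T := Y') _).symm.trans ((congrArg Red.gaFn ?_).trans (gaFn_ptOf _))
    refine Over.OverMorphism.ext ((Y'.left.openCoverOfIsOpenCover (fun U : S.affineOpens => Y'.hom ⁻¹ᵁ U.1)
      (TopologicalSpace.IsOpenCover.comap (iSup_affineOpens_eq_top S) Y'.hom.base.hom)).hom_ext _ _ fun U => ?_)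
    let Z : Over S := Over.mk ((Y'.hom ⁻¹ᵁ U.1).ι ≫ Y'.hom)
    let j : Z ⟶ Y' := Over.homMk (Y'.hom ⁻¹ᵁ U.1).ι rfl
    have hZ : ⊤ ≤ Z.hom ⁻¹ᵁ U.1 := fun x _ => x.2
    refine congrArg CommaMorphism.left (?_ : j ≫ _ = j ≫ _)
    rw [comp_ptOf, comp_ptOf, hΦ, eval₂_naturality j _ (by simp), hC U Z hZ, ← hQ U, MvPolynomial.eval₂_map,
      ← CommRingCat.hom_comp, Scheme.Hom.map_appLE]
  · by_contra hdF
    refine MvPolynomial.mem_support_iff.1 hd ?_
    simp only [Q, MvPolynomial.coeff_sum, MvPolynomial.coeff_monomial, Finset.sum_ite_eq', if_neg hdF]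

end SplitFib

end
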