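import Groth.Agent.SplitFibLib.Swap
import Groth.Agent.BorelLib.Chevalley

/-!
# A Borel subgroup of the centraliser of a line meets one side only
-/

set_option autoImplicit false
set_option linter.style.haveILetI false
set_option linter.unusedSectionVars false
set_option backward.isDefEq.respectTransparency false
set_option maxHeartbeats 1000000
set_option synthInstance.maxHeartbeats 400000

universe u

open CategoryTheory CategoryTheory.Limits MonoidalCategory CartesianMonoidalCategory AlgebraicGeometry WithConv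
open scoped MonObj LaurentPolynomial
open CoactBr (sp)
open Groth.Agent.BorelLib

noncomputable section

attribute [-instance] CategoryTheory.Hom.commGroup

namespace SplitFib

attribute [local instance] pTop pTopTensor

open SplitCell

variable {S : Scheme.{u}} {G : Over S} [GrpObj G] {D : Red.SplitRed G} {K : Type u} [Field K] [IsAlgClosed K]
  (a : Spec (CommRingCat.of K) ⟶ S) {A : Type u} [CommRing A] [HopfAlgebra K A]
  (v : sp K A ≅ Red.bc a G) [IsMonHom v.hom] [Algebra.FiniteType K A] [_root_.IsReduced A]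
  [IsAffine (Red.bc a G).left] [Smooth (Red.bc a G).hom]

omit [_root_.IsReduced A] in
/-- A closed subset of the line with all non-zero points contains all points. -/
theorem mem_of_units {Y : Set (Pt K (Polynomial K))} (hY : IsClosed Y) (h : ∀ z : Kˣ, linePt (z : K) ∈ Y)
    (x : Pt K (Polynomial K)) : x ∈ Y := by
  by_contra hx
  haveI : Infinite K := IsAlgClosed.instInfinite
  refine ((Set.finite_singleton (0 : K)).infinite_compl) ((finite_lineCoord hY hx).subset fun c hc => ?_)
  exact ⟨linePt c, h (Units.mk0 c hc), lineCoord_linePt c⟩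

variable (L : Line D) (b : Sides D.P)

/-- The kernel is connected. -/
theorem isPreconnected_Sker : _root_.IsPreconnected (Sker a v L : Set (Pt K A)) := by
  refine isPreconnected_of_forall 1 fun g hg => ?_
  induction hg using Subgroup.closure_induction with
  | mem x hx =>
    obtain ⟨f, hf, z, rfl⟩ := hx
    refine ⟨Set.range (fam a v (cochFam D a f)), ?_, ⟨gmPt 1, ?_⟩, ⟨gmPt z, fam_cochFam D a v f z⟩,
      isPreconnected_range a v _⟩
    · rintro _ ⟨y, rfl⟩
      obtain ⟨z', rfl⟩ := exists_gmPt y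
      rw [fam_cochFam]
      exact Subgroup.subset_closure ⟨f, hf, z', rfl⟩
    · rw [fam_cochFam]
      exact map_one (tcHom D a v f)
  | one => exact ⟨{1}, by simp [one_mem], rfl, rfl, isPreconnected_singleton⟩
  | mul g h _ _ hg hh =>
    obtain ⟨T, hT, h1, hgT, hTc⟩ := hg
    obtain ⟨T', hT', h1', hhT, hTc'⟩ := hh
    refine ⟨T ∪ (fun z => g * z) '' T', ?_, Or.inl h1, Or.inr ⟨h, hhT, rfl⟩, ?_⟩
    · rintro z (hz | ⟨z, hz, rfl⟩)
      · exact hT hz
      · exact Subgroup.mul_mem _ (hT hgT) (hT' hz)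
    · exact hTc.union g hgT ⟨1, h1', _root_.mul_one g⟩
        (hTc'.image _ (Groth.Agent.BorelLib.continuous_const_mul g).continuousOn)
  | inv g _ hg =>
    obtain ⟨T, hT, h1, hgT, hTc⟩ := hg
    refine ⟨(fun z => g⁻¹ * z) '' T, ?_, ⟨g, hgT, inv_mul_cancel g⟩, ⟨1, h1, _root_.mul_one _⟩,
      hTc.image _ (Groth.Agent.BorelLib.continuous_const_mul g⁻¹).continuousOn⟩
    rintro _ ⟨z, hz, rfl⟩
    exact Subgroup.mul_mem _ (Subgroup.inv_mem _ (hT hgT)) (hT hz)

theorem isTor_clSub_Sker (hT : IsTor (Tsub D a v)) : IsTor (clSub (Sker a v L)) :=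
  hT.of_le (clSub_le hT.closed (Sker_le a v L)) (isClosed_clSub _)
    (by rw [coe_clSub]; exact (isPreconnected_Sker a v L).closure)

theorem Cen_eq : Cen a v L = ⊤ ⊓ Subgroup.centralizer (clSub (Sker a v L) : Set (Pt K A)) := by
  rw [top_inf_eq]
  refine le_antisymm (fun g hg => Subgroup.mem_centralizer_iff.2 fun s hs => ?_)
    (Subgroup.centralizer_le (le_clSub (Sker a v L)))
  refine ((isClosed_commuting g).closure_subset_iff.2 (fun x hx => ?_) hs).symm
  exact (Subgroup.mem_centralizer_iff.1 hg x hx).symm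

variable (hconn : _root_.IsPreconnected (Set.univ : Set (Pt K A))) (hred : IsRedPts K A)
  (hT : IsMaxTor ⊤ (Tsub D a v))
include hconn

theorem isClosed_top : IsClosed ((⊤ : Subgroup (Pt K A)) : Set (Pt K A)) := by
  rw [Subgroup.coe_top]; exact isClosed_univ

theorem isPreconnected_top'' : _root_.IsPreconnected ((⊤ : Subgroup (Pt K A)) : Set (Pt K A)) := by
  rwa [Subgroup.coe_top]

include hT

theorem Cen_facts : IsClosed (Cen a v L : Set (Pt K A)) ∧ _root_.IsPreconnected (Cen a v L : Set (Pt K A)) := by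
  rw [Cen_eq]
  exact ⟨(isClosed_top hconn).inter (isClosed_centralizer _),
    isPreconnected_centralizer_tor (isClosed_top hconn) (isPreconnected_top'' hconn)
      (isTor_clSub_Sker a v L hT.tor) le_top⟩

theorem isBor_inf_Cen {B : Subgroup (Pt K A)} (hB : IsBor ⊤ B) (hTB : Tsub D a v ≤ B) :
    IsBor (Cen a v L) (B ⊓ Cen a v L) := by
  have h := hB.inf_centralizer (isClosed_top hconn) (isPreconnected_top'' hconn)
    (isTor_clSub_Sker a v L hT.tor) ((clSub_le hT.tor.closed (Sker_le a v L)).trans hTB)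
  rw [Cen_eq, top_inf_eq]
  rw [top_inf_eq] at h
  exact h

/-- A Borel subgroup containing the torus and a positive side. -/
theorem exists_bor_pos {m : ℕ} {epos : Fin m → D.idx} (hpos : RedSub.Enumerates b.pos epos) :
    ∃ B, IsBor ⊤ B ∧ Tsub D a v ≤ B ∧ rootSub D a v b.pos ≤ B := by
  obtain ⟨B₀, hB₀, hp, hs⟩ := exists_bplus D a v b hpos hT.tor
  obtain ⟨B, hB, hle, -⟩ := exists_bor_commute hconn hp hs (c := 1) fun h _ => by
    rw [_root_.one_mul, _root_.mul_one]
  refine ⟨B, hB, fun x ⟨t, ht⟩ => hle ((hB₀ x).2 ⟨t, 0, by rw [uPe_zero, _root_.mul_one]; exact ht.symm⟩),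
    (Subgroup.closure_le _).2 ?_⟩
  rintro _ ⟨k, hk, r, rfl⟩
  obtain ⟨j, rfl⟩ := hpos.2.symm.subset hk
  exact hle ((hB₀ _).2 ⟨1, Pi.single j r, by rw [map_one, _root_.one_mul, uPe_single]⟩)

include hred

theorem exists_normalizer_conj {B B' : Subgroup (Pt K A)} (hB : IsBor ⊤ B) (hTB : Tsub D a v ≤ B)
    (hB' : IsBor ⊤ B') (hTB' : Tsub D a v ≤ B') : ∃ g ∈ Cen a v L, conjSub g (Tsub D a v) = Tsub D a v ∧
      conjSub g (B ⊓ Cen a v L) = B' ⊓ Cen a v L := by
  obtain ⟨hCc, hCp⟩ := Cen_facts a v L hconn hT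
  have h1 := isBor_inf_Cen a v L hconn hT hB hTB
  have h2 := isBor_inf_Cen a v L hconn hT hB' hTB'
  obtain ⟨g, hg, hgB⟩ := h1.exists_conj hCc hCp h2
  have hmax : IsMaxTor (B' ⊓ Cen a v L) (Tsub D a v) :=
    ⟨le_inf hTB' (Tsub_le_Cen a v L), hT.tor, fun T' _ h hle => hT.maximal T' le_top h hle⟩
  have hle : conjSub g (Tsub D a v) ≤ B' ⊓ Cen a v L := by
    rw [← hgB]; exact conjSub_mono (le_inf hTB (Tsub_le_Cen a v L))
  obtain ⟨x, hx, hxT⟩ := hmax.exists_conj_le h2.closed h2.conn hle (hT.tor.conjSub g)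
  rw [conjSub_conjSub] at hxT
  refine ⟨x * g, (Cen a v L).mul_mem hx.2 hg, ?_, by rw [← conjSub_conjSub, hgB, conjSub_eq_self hx]⟩
  have h3 : Tsub D a v ≤ conjSub (x * g)⁻¹ (Tsub D a v) := by
    have := conjSub_mono (a := (x * g)⁻¹) hxT
    rwa [conjSub_conjSub, inv_mul_cancel, conjSub_one] at this
  have h4 := hT.maximal _ le_top (hT.tor.conjSub (x * g)⁻¹) h3
  conv_lhs => rw [← h4, conjSub_conjSub, mul_inv_cancel, conjSub_one]

/-- **The negative side of a line meets no Borel subgroup containing the positive one.** -/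
theorem eq_one_of_mem_bor {B : Subgroup (Pt K A)} (hB : IsBor ⊤ B) (hTB : Tsub D a v ≤ B)
    (hUB : rootSub D a v (L.roots ∩ b.pos) ≤ B) : B ⊓ rootSub D a v (L.roots ∩ b.neg) = ⊥ := by
  obtain ⟨f, -, hfp, -⟩ := exists_reg L (flipSides b)
  obtain ⟨l, e, he⟩ := exists_enumerates (L.roots ∩ b.neg)
  have hmem : ∀ i, e i ∈ L.roots ∧ e i ∈ b.neg := fun i => he.2.subset (Set.mem_range_self i)
  obtain ⟨hU, hUc, -, hUu⟩ :=
    rootSub_props D a v (flipSides b) (isSatur_line L (flipSides b) he) he.1 fun i => (hmem i).2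
  rw [he.2] at hU hUc hUu
  have hd : ∀ i, ∃ d : ℕ, f (D.P.root (e i)) = d ∧ 0 < d := fun i => by
    have := hfp _ (hmem i).1 (hmem i).2
    exact ⟨(f (D.P.root (e i))).toNat, by omega, by omega⟩
  choose d hd hd0 using hd
  set Q := B ⊓ rootSub D a v (L.roots ∩ b.neg) with hQ
  have hQc : IsClosed (Q : Set (Pt K A)) := hB.closed.inter hUc
  have hQp : _root_.IsPreconnected (Q : Set (Pt K A)) := by
    refine isPreconnected_of_forall 1 fun q hq => ?_
    obtain ⟨c, rfl⟩ := (hU q).1 hq.2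
    let P : aP a (Polynomial K) ⟶ G :=
      pe a (fun i => D.u (e i)) fun i => Polynomial.C (c i) * Polynomial.X ^ d i
    have hP : ∀ z : K, fam a v P (linePt z) = uPe D a v e (fun i => c i * z ^ d i) := fun z => by
      rw [fam_pe]; congr 1; funext i; simp [linePt]
    refine ⟨Set.range (fam a v P), ?_, ⟨linePt 0, ?_⟩, ⟨linePt 1, ?_⟩, isPreconnected_range a v P⟩
    · rintro _ ⟨x, rfl⟩
      refine ⟨?_, ?_⟩
      · refine mem_of_units (hB.closed.preimage (isMor_fam a v P).continuous) (fun z => ?_) x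
        show fam a v P (linePt (z : K)) ∈ B
        rw [hP, show (fun i => c i * (z : K) ^ d i) = fun i =>
          (ch D a (tc D a f z) (Multiplicative.ofAdd (D.P.root (e i))) : K) * c i from funext fun i => by
            rw [ch_cochT, hd i, zpow_natCast, Units.val_pow_eq_pow_val, _root_.mul_comm], ← conj_uPe]
        exact B.mul_mem (B.mul_mem (hTB ⟨_, rfl⟩) hq.1) (B.inv_mem (hTB ⟨_, rfl⟩))
      · rw [← linePt_lineCoord x, hP]
        exact (hU _).2 ⟨_, rfl⟩
    · rw [hP, show (fun i => c i * (0 : K) ^ d i) = 0 from funext fun i => by simp [zero_pow (hd0 i).ne'], uPe_zero]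
    · rw [hP]; simp
  have hall : ∀ B', IsBor ⊤ B' → Tsub D a v ≤ B' → Q ≤ B' := by
    intro B' hB' hTB'
    obtain ⟨g, hg, hgT, hgB⟩ := exists_normalizer_conj a v L hconn hred hT hB hTB hB' hTB'
    have hQC : Q ≤ B ⊓ Cen a v L :=
      le_inf inf_le_left (inf_le_right.trans (rootSub_le_Cen a v L Set.inter_subset_left))
    rcases mem_or_isFlip a v L hT.tor (hred.centralizer_eq hconn hT) hg hgT with h | h
    · rw [conjSub_eq_self (K := B ⊓ Cen a v L) ⟨hTB h, Tsub_le_Cen a v L h⟩] at hgB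
      exact hQC.trans (hgB.le.trans inf_le_left)
    · refine (inf_le_right.trans ?_).trans inf_le_left (b := B' ⊓ Cen a v L)
      rw [← flip_conj_eq a v L b h, ← hgB]
      exact conjSub_mono (le_inf hUB (rootSub_le_Cen a v L Set.inter_subset_left))
  have hQu : ∀ u ∈ Q, IsUni u := fun u hu => hUu u hu.2
  refine eq_bot_of_le_radSub hconn hred hQp (le_neut hQp (le_iInf fun B' => ?_)) hQu
  exact le_of_le_borels hconn hT hQp (isSol_of_uni hQc hQp hQu) hall (fun W _ _ _ r u hu => hQu u hu W r) B'.2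

end SplitFib

end
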