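import Groth.Agent.SplitFibLib.Line

/-!
# A flip exchanges the two sides of a line
-/

set_option autoImplicit false
set_option linter.style.haveILetI false
set_option linter.unusedSectionVars false
set_option backward.isDefEq.respectTransparency false
set_option maxHeartbeats 1000000
set_option synthInstance.maxHeartbeats 400000

universe u

open CategoryTheory CategoryTheory.Limits MonoidalCategory CartesianMonoidalCategory AlgebraicGeometry WithConv
open scoped MonObj LaurentPolynomial
open CoactBr (sp)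
open Groth.Agent.BorelLib

noncomputable section

attribute [-instance] CategoryTheory.Hom.commGroup

namespace SplitFib

attribute [local instance] pTop pTopTensor

open SplitCell

variable {S : Scheme.{u}} {G : Over S} [GrpObj G] {D : Red.SplitRed G} {K : Type u} [Field K] [IsAlgClosed K]
  (a : Spec (CommRingCat.of K) ⟶ S) {A : Type u} [CommRing A] [HopfAlgebra K A]
  (v : sp K A ≅ Red.bc a G) [IsMonHom v.hom] (L : Line D) (b : Sides D.P)

/-- A cocharacter of the line positive on the positive side. -/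
theorem exists_reg : ∃ f : D.M →ₗ[ℤ] ℤ, (∀ k ∈ L.roots, f (D.P.root k) = f L.χ * L.co (D.P.root k)) ∧
    (∀ k ∈ L.roots, k ∈ b.pos → 0 < f (D.P.root k)) ∧ ∀ k ∈ L.roots, k ∈ b.neg → f (D.P.root k) < 0 := by
  obtain ⟨g, h1, h2⟩ := b.regular
  have e : ∀ k ∈ L.roots, (g L.χ • L.co) (D.P.root k) = g (D.P.root k) := fun k hk => by
    conv_rhs => rw [show D.P.root k = L.co (D.P.root k) • L.χ from hk, map_zsmul]
    simp [_root_.mul_comm]
  refine ⟨g L.χ • L.co, fun k _ => by simp [L.co_χ], fun k hk hp => ?_, fun k hk hp => ?_⟩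
  · rw [e k hk]; exact h1 k hp
  · rw [e k hk]; exact h2 k hp

/-- The positive roots of a line are saturated. -/
theorem isSatur_line {l : ℕ} {e : Fin l → D.idx} (he : RedSub.Enumerates (L.roots ∩ b.pos) e) : IsSatur D e := by
  intro k d hd
  obtain ⟨g, h1, h2⟩ := b.regular
  rw [he.2]
  refine ⟨?_, (b.total k).resolve_right fun hk => ?_⟩
  · show D.P.root k = L.co (D.P.root k) • L.χ
    rw [hd, map_sum, Finset.sum_smul]
    refine Finset.sum_congr rfl fun i _ => ?_
    rw [map_zsmul, smul_eq_mul, mul_smul]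
    congr 1
    exact (he.2.subset (Set.mem_range_self i)).1
  · have h := congrArg g hd
    simp only [map_sum, map_zsmul, smul_eq_mul] at h
    have h0 : 0 ≤ ∑ i, (d i : ℤ) * g (D.P.root (e i)) := Finset.sum_nonneg fun i _ =>
      mul_nonneg (Int.natCast_nonneg _) (h1 _ (he.2.subset (Set.mem_range_self i)).2).le
    have := h2 k hk
    omega

/-- Conjugation of a point of the cell by the torus. -/
theorem conj_cellPt {n m : ℕ} (eneg : Fin n → D.idx) (epos : Fin m → D.idx) (s t : aP a K ⟶ D.T) (y : Fin n → K)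
    (c : Fin m → K) :
    torusHom D a v s * (uPe D a v eneg y * (torusHom D a v t * uPe D a v epos c)) * (torusHom D a v s)⁻¹ =
      uPe D a v eneg (fun k => (ch D a s (Multiplicative.ofAdd (D.P.root (eneg k))) : K) * y k) *
        (torusHom D a v t * uPe D a v epos fun k => (ch D a s (Multiplicative.ofAdd (D.P.root (epos k))) : K) * c k) := by
  rw [← conj_uPe, ← conj_uPe]
  have h : torusHom D a v t = torusHom D a v s * torusHom D a v t * (torusHom D a v s)⁻¹ := by
    rw [← map_mul, torus_comm, map_mul, mul_inv_cancel_right]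
  conv_rhs => rw [h]
  group

variable [Algebra.FiniteType K A] [IsAffine (Red.bc a G).left] [Smooth (Red.bc a G).hom]
  {n m : ℕ} {eneg : Fin n → D.idx} {epos : Fin m → D.idx}

/-- The coordinates of a point of the cell centralising the kernel are on the line. -/
theorem mem_line_of_Cen (hneg : RedSub.Enumerates b.neg eneg) (hpos : RedSub.Enumerates b.pos epos)
    {y : Fin n → K} {t : aP a K ⟶ D.T} {c : Fin m → K}
    (h : uPe D a v eneg y * (torusHom D a v t * uPe D a v epos c) ∈ Cen a v L) :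
    (∀ k, y k ≠ 0 → eneg k ∈ L.roots) ∧ ∀ k, c k ≠ 0 → epos k ∈ L.roots := by
  have key : ∀ f : D.M →ₗ[ℤ] ℤ, f L.χ = 0 → ∀ z : Kˣ,
      (fun k => ((z ^ f (D.P.root (eneg k)) : Kˣ) : K) * y k) = y ∧
        (fun k => ((z ^ f (D.P.root (epos k)) : Kˣ) : K) * c k) = c := fun f hf z => by
    have e := conj_cellPt a v eneg epos (tc D a f z) t y c
    rw [(mem_Cen_iff a v L).1 h f hf z, mul_inv_cancel_right] at e
    simp only [ch_cochT] at e
    obtain ⟨h1, -, h2⟩ := cellPts_inj D a v b hneg hpos e.symm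
    exact ⟨h1, h2⟩
  let B := Module.finBasis ℤ D.M
  have hmem : ∀ k, (∀ f : D.M →ₗ[ℤ] ℤ, f L.χ = 0 → ∀ z : Kˣ, z ^ f (D.P.root k) = 1) → k ∈ L.roots := by
    intro k hk
    show D.P.root k = L.co (D.P.root k) • L.χ
    refine B.ext_elem fun i => ?_
    let f : D.M →ₗ[ℤ] ℤ := B.coord i - B.coord i L.χ • L.co
    have hf : f L.χ = 0 := by simp [f, L.co_χ]
    have h0 : f (D.P.root k) = 0 := by
      by_contra hne
      obtain ⟨z, hz⟩ := exists_units_zpow_ne_one K hne
      exact hz (hk f hf z)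
    rw [map_zsmul, Finsupp.smul_apply, smul_eq_mul]
    simp only [f, LinearMap.sub_apply, LinearMap.smul_apply, Module.Basis.coord_apply, smul_eq_mul, sub_eq_zero] at h0
    rw [h0, _root_.mul_comm]
  refine ⟨fun k hk => hmem _ fun f hf z => Units.ext ?_, fun k hk => hmem _ fun f hf z => Units.ext ?_⟩
  · exact mul_right_cancel₀ hk ((congrFun (key f hf z).1 k).trans (_root_.one_mul _).symm)
  · exact mul_right_cancel₀ hk ((congrFun (key f hf z).2 k).trans (_root_.one_mul _).symm)

omit [Smooth (Red.bc a G).hom] [IsAffine (Red.bc a G).left] [Algebra.FiniteType K A] in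
theorem fam_aM {R R' : Type u} [CommRing R] [Algebra K R] [CommRing R'] [Algebra K R'] (φ : R →ₐ[K] R')
    (P : aP a R ⟶ G) (x : Pt K R') : fam a v (aM a φ ≫ P) x = fam a v P (toConv (x.ofConv.comp φ)) := by
  rw [fam, fam, ← Category.assoc, ← aM_comp]

omit [IsAlgClosed K] in
theorem eq_at_zero {q r : Polynomial K} (h : ∀ z : Kˣ, q.eval (z : K) = r.eval (z : K)) [Infinite K] : q = r := by
  refine sub_eq_zero.1 ?_
  have h0 : (q - r) * Polynomial.X = 0 := Polynomial.funext fun x => by
    rcases eq_or_ne x 0 with rfl | hx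
    · simp
    · have := h (Units.mk0 x hx)
      rw [Units.val_mk0] at this
      simp [this]
  exact (mul_eq_zero.1 h0).resolve_right Polynomial.X_ne_zero

/-- **A flip maps the positive side of the line into the negative one.** -/
theorem flip_conj_le {g : Pt K A} (hg : IsFlip a v L g) :
    conjSub g (rootSub D a v (L.roots ∩ b.pos)) ≤ rootSub D a v (L.roots ∩ b.neg) := by
  obtain ⟨f, hf, hfp, -⟩ := exists_reg L b
  obtain ⟨l, e, he⟩ := exists_enumerates (L.roots ∩ b.pos)
  obtain ⟨n, m, eneg, epos, hneg, hpos⟩ := exists_enum D b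
  haveI : Infinite K := IsAlgClosed.instInfinite
  have hmem : ∀ i, e i ∈ L.roots ∧ e i ∈ b.pos := fun i => he.2.subset (Set.mem_range_self i)
  have hd : ∀ i, ∃ d : ℕ, f (D.P.root (e i)) = d ∧ 0 < d := fun i => by
    have := hfp _ (hmem i).1 (hmem i).2
    exact ⟨(f (D.P.root (e i))).toNat, by omega, by omega⟩
  choose d hd hd0 using hd
  rintro _ ⟨x, hx, rfl⟩
  have hx' : x ∈ rootSub D a v (Set.range e) := by rw [he.2]; exact hx
  obtain ⟨c, rfl⟩ := ((rootSub_props D a v b (isSatur_line L b he) he.1 fun i => (hmem i).2).1 x).1 hx'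
  change g * uPe D a v e c * g⁻¹ ∈ _
  let P : aP a (Polynomial K) ⟶ G :=
    cfam a v g * pe a (fun i => D.u (e i)) (fun i => Polynomial.C (c i) * Polynomial.X ^ d i) * (cfam a v g)⁻¹
  have hP : ∀ z : K, fam a v P (linePt z) = g * uPe D a v e (fun i => c i * z ^ d i) * g⁻¹ := fun z => by
    rw [fam_mul, fam_mul, fam_inv, fam_cfam, fam_pe]
    congr 3
    funext i
    simp [linePt]
  have hP0 : fam a v P (linePt 0) = 1 := by
    rw [hP, show (fun i => c i * (0 : K) ^ d i) = 0 from funext fun i => by simp [zero_pow (hd0 i).ne'], uPe_zero,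
      _root_.mul_one, mul_inv_cancel]
  have hPz : ∀ z : Kˣ, fam a v P (linePt (z : K)) = torusHom D a v (tc D a (-f) z) *
      (g * uPe D a v e c * g⁻¹) * (torusHom D a v (tc D a (-f) z))⁻¹ := fun z => by
    obtain ⟨t', ht'⟩ : ∃ t', g⁻¹ * torusHom D a v (tc D a (-f) z) * g⁻¹⁻¹ = torusHom D a v t' := by
      obtain ⟨t', h⟩ := hg.inv.norm.le ⟨_, ⟨tc D a (-f) z, rfl⟩, rfl⟩
      exact ⟨t', h.symm⟩
    have hχ := hg.inv.neg _ _ ht'
    rw [ch_cochT, LinearMap.neg_apply, zpow_neg, inv_inv] at hχ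
    rw [inv_inv] at ht'
    have hw : ∀ i, (fun i => c i * (z : K) ^ d i) i =
        (ch D a t' (Multiplicative.ofAdd (D.P.root (e i))) : K) * c i := fun i => by
      have e1 : ch D a t' (Multiplicative.ofAdd (D.P.root (e i))) = z ^ (d i : ℤ) := by
        rw [← hd i, hf _ (hmem i).1, zpow_mul, ← hχ]
        conv_lhs => rw [show D.P.root (e i) = L.co (D.P.root (e i)) • L.χ from (hmem i).1, ofAdd_zsmul, map_zpow]
      simp [e1, _root_.mul_comm]
    rw [hP, funext hw, ← conj_uPe, ← ht']
    group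
  -- the image lies in the cell
  let g₀ := (ptG a v).symm (g * uPe D a v e c * g⁻¹)
  have hF : aM a (toT K K) ≫ P = gel a (coch D (-f)) (unitT K) * (aM a ((toT K K).comp (cC K K)) ≫ g₀) *
      (gel a (coch D (-f)) (unitT K))⁻¹ := by
    refine family_ext a v fun x => ?_
    obtain ⟨z, rfl⟩ := exists_gmPt x
    rw [fam_mul, fam_mul, fam_inv, fam_aM]
    have e1 : fam a v (gel a (coch D (-f)) (unitT K)) (gmPt z) = torusHom D a v (tc D a (-f) z) :=
      fam_cochFam D a v (-f) z
    have e2 : fam a v (aM a ((toT K K).comp (cC K K)) ≫ g₀) (gmPt z) = g * uPe D a v e c * g⁻¹ := by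
      rw [show (toT K K).comp (cC K K) = Algebra.ofId K K[T;T⁻¹] from Algebra.ext_id_iff.2 trivial]
      exact fam_cfam a v _ _
    rw [e1, e2, ← hPz]
    congr 1
    exact congrArg toConv (evT_toT (R := K) z)
  have h0 : aM a (evA (R := K) (0 : K)) ≫ P = 1 := (ptG a v).injective (by rw [map_one]; exact hP0)
  obtain ⟨y, t, c', hcell⟩ := exists_cpt_of_lim D b a hneg hpos (-f) g₀ P hF h0
  have hx1 : g * uPe D a v e c * g⁻¹ = uPe D a v eneg y * (torusHom D a v t * uPe D a v epos c') := by
    rw [← (ptG a v).apply_symm_apply (g * uPe D a v e c * g⁻¹)]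
    show ptG a v g₀ = _
    rw [← hcell, cpt_cellMap, map_mul, map_mul]
    rfl
  obtain ⟨hyL, hcL⟩ := mem_line_of_Cen a v L b hneg hpos (hx1 ▸ (Cen a v L).mul_mem ((Cen a v L).mul_mem hg.mem
    (rootSub_le_Cen a v L (fun k hk => (show k ∈ L.roots ∩ b.pos from he.2 ▸ hk).1)
      (uPe_mem_rootSub D a v fun i _ => Set.mem_range_self i))) (inv_mem hg.mem))
  -- the coordinates along the family
  obtain ⟨Y, τ, C', hco⟩ := exists_coords D a v b hneg hpos P fun x => by
    rw [← linePt_lineCoord x]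
    rcases eq_or_ne (lineCoord x) 0 with h | h
    · rw [h, hP0]; exact one_mem_cellPts D a v
    · rw [show lineCoord x = ((Units.mk0 _ h : Kˣ) : K) from rfl, hPz, hx1, conj_cellPt]
      exact ⟨_, _, _, rfl⟩
  have hval : ∀ z : Kˣ, t = aM a (linePt (z : K)).ofConv ≫ τ ∧
      ∀ k, ((z ^ (-f (D.P.root (epos k))) : Kˣ) : K) * c' k = (C' k).eval (z : K) := fun z => by
    have e2 := hco (linePt (z : K))
    rw [hPz, hx1, conj_cellPt] at e2
    simp only [ch_cochT, LinearMap.neg_apply] at e2
    obtain ⟨-, h1, h2⟩ := cellPts_inj D a v b hneg hpos e2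
    exact ⟨h1, fun k => (congrFun h2 k).trans (by simp [linePt])⟩
  obtain ⟨hY0, hτ0, hC0⟩ := cellPts_inj D a v b hneg hpos
    (show uPe D a v eneg (fun k => (linePt (0 : K)).ofConv (Y k)) * (torusHom D a v (aM a (linePt (0 : K)).ofConv ≫ τ) *
        uPe D a v epos fun k => (linePt (0 : K)).ofConv (C' k)) =
      uPe D a v eneg 0 * (torusHom D a v 1 * uPe D a v epos 0) by
      rw [← hco, hP0, uPe_zero, uPe_zero, map_one, _root_.one_mul, _root_.one_mul])
  have hc0 : c' = 0 := funext fun k => by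
    by_contra hck
    have hk : 0 < f (D.P.root (epos k)) := hfp _ (hcL k hck) (hpos.2.subset (Set.mem_range_self k))
    obtain ⟨d', hd'⟩ := Int.eq_ofNat_of_zero_le hk.le
    have h1 : C' k * Polynomial.X ^ d' = Polynomial.C (c' k) := eq_at_zero fun z => by
      rw [Polynomial.eval_mul, Polynomial.eval_pow, Polynomial.eval_X, Polynomial.eval_C, ← (hval z).2 k, hd',
        zpow_neg, zpow_natCast, Units.val_inv_eq_inv_val, Units.val_pow_eq_pow_val]
      field_simp
    have h2 := congrArg (Polynomial.eval 0) h1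
    rw [Polynomial.eval_mul, Polynomial.eval_pow, Polynomial.eval_X, zero_pow (by omega), mul_zero,
      Polynomial.eval_C] at h2
    exact hck h2.symm
  have ht1 : t = 1 := ch_injective D a (MonoidHom.ext fun μ₀ => by
    obtain ⟨μ₀, rfl⟩ := Multiplicative.ofAdd.surjective μ₀
    obtain ⟨r, -, hr⟩ := Polynomial.isUnit_iff.1 (isUnit_chR D a τ μ₀)
    refine Units.ext ?_
    rw [(hval 1).1, ← hτ0, ch_aM, ch_aM, ← hr]
    simp [linePt])
  show g * uPe D a v e c * g⁻¹ ∈ _
  rw [hx1, hc0, ht1, uPe_zero, map_one, _root_.one_mul, _root_.mul_one]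
  exact uPe_mem_rootSub D a v fun k hk => ⟨hyL k hk, hneg.2.subset (Set.mem_range_self k)⟩

/-- **A flip exchanges the sides of the line.** -/
theorem flip_conj_eq {g : Pt K A} (hg : IsFlip a v L g) :
    conjSub g (rootSub D a v (L.roots ∩ b.pos)) = rootSub D a v (L.roots ∩ b.neg) := by
  refine le_antisymm (flip_conj_le a v L b hg) ?_
  have h := conjSub_mono (a := g) (flip_conj_le a v L (flipSides b) hg.inv)
  rwa [conjSub_conjSub, mul_inv_cancel, conjSub_one] at h

end SplitFib

end
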