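import Groth.Agent.SplitFibLib.Bridge

/-!
# The split torus over a field
-/

set_option autoImplicit false
set_option linter.style.haveILetI false
set_option linter.unusedSectionVars false
set_option backward.isDefEq.respectTransparency false
set_option maxHeartbeats 1000000
set_option synthInstance.maxHeartbeats 400000

universe u

open CategoryTheory CategoryTheory.Limits MonoidalCategory CartesianMonoidalCategory AlgebraicGeometry
open Groth.Agent.GaPts
open scoped MonObj

noncomputable section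

namespace SplitFib

open SplitCell
open Groth.Agent.BigCell (rt)

variable {S : Scheme.{u}} {G : Over S} [GrpObj G] (D : Red.SplitRed G) {K : Type u} [Field K]
  (a : Spec (CommRingCat.of K) ⟶ S)

theorem split_hom_mul {X : Over S} (t t' : X ⟶ D.T) :
    (t * t') ≫ D.split.hom.hom.hom = (t ≫ D.split.hom.hom.hom) * (t' ≫ D.split.hom.hom.hom) :=
  MonObj.mul_comp _ _ _

theorem mono_split : Mono D.split.hom.hom.hom := by
  refine ⟨fun g h e => ?_⟩
  have e' := congrArg (fun x => x ≫ D.split.inv.hom.hom) e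
  have e0 : D.split.hom.hom.hom ≫ D.split.inv.hom.hom = 𝟙 _ := by
    change (D.split.hom ≫ D.split.inv).hom.hom = _
    rw [D.split.hom_inv_id]; rfl
  simpa [Category.assoc, e0] using e'

/-- The constants as a ring isomorphism. -/
def cstE : K ≃+* Γ((aP a K).left, ⊤) := RingEquiv.ofBijective (cst a K) (cst_bijective a)

/-- The values of the characters at a point of the torus. -/
def ch (t : aP a K ⟶ D.T) : Multiplicative D.M →* Kˣ :=
  (Units.map (cstE a).symm.toMonoidHom).comp (MultSubLib.chars (t ≫ D.split.hom.hom.hom)).toHomUnits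

theorem cst_ch (t : aP a K ⟶ D.T) (m : D.M) :
    cst a K (ch D a t (Multiplicative.ofAdd m) : K) =
      Red.gmFn (t ≫ D.split.hom.hom.hom ≫ Red.chi S m) := by
  rw [← Category.assoc, gmFn_chi]
  exact (cstE a).apply_symm_apply _

theorem ch_mul (t t' : aP a K ⟶ D.T) : ch D a (t * t') = ch D a t * ch D a t' := by
  refine MonoidHom.ext fun m => Units.ext ?_
  show (cstE a).symm _ = (cstE a).symm _ * (cstE a).symm _
  rw [← map_mul, split_hom_mul, MultSubLib.chars_mul]
  rfl

theorem ch_one : ch D a 1 = 1 := by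
  have h := ch_mul D a 1 1
  rw [_root_.one_mul] at h
  refine MonoidHom.ext fun m => ?_
  have h' := DFunLike.congr_fun h m
  rw [MonoidHom.mul_apply, left_eq_mul] at h'
  exact h'

theorem ch_injective : Function.Injective (ch D a) := fun t t' h => by
  haveI := mono_split D
  refine (cancel_mono D.split.hom.hom.hom).1 (MultSubLib.chars_injective (MonoidHom.ext fun m => ?_))
  exact (cstE a).symm.injective (congrArg Units.val (DFunLike.congr_fun h m))

theorem ch_cochT (f : D.M →ₗ[ℤ] ℤ) (z : Kˣ) (m : D.M) :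
    ch D a (cochT D f (GmPts.ptOfUnit (Units.map (cst a K).toMonoidHom z))) (Multiplicative.ofAdd m) = z ^ f m := by
  refine Units.ext ((cst_bijective a).1 ?_)
  rw [cst_ch]
  exact gmFn_unitT D a f z m

/-- The point of the torus with a value of the cocharacter. -/
abbrev tc (f : D.M →ₗ[ℤ] ℤ) (z : Kˣ) : aP a K ⟶ D.T :=
  cochT D f (GmPts.ptOfUnit (Units.map (cst a K).toMonoidHom z))

theorem tc_i (f : D.M →ₗ[ℤ] ℤ) (z : Kˣ) : tc D a f z ≫ D.i = gel a (coch D f) z := cochT_comp D f _

theorem tc_mul (f : D.M →ₗ[ℤ] ℤ) (z z' : Kˣ) : tc D a f (z * z') = tc D a f z * tc D a f z' :=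
  ch_injective D a (MonoidHom.ext fun m => by
    obtain ⟨m, rfl⟩ := Multiplicative.ofAdd.surjective m
    rw [ch_mul, MonoidHom.mul_apply, ch_cochT, ch_cochT, ch_cochT, mul_zpow])

/-- Conjugation of a root element. -/
theorem conj_el (t : aP a K ⟶ D.T) (k : D.idx) (r : K) :
    (t ≫ D.i) * el a (D.u k) r * (t ≫ D.i)⁻¹ = el a (D.u k) ((ch D a t (Multiplicative.ofAdd (D.P.root k)) : K) * r) := by
  rw [el, el, conj_torus, map_mul, cst_ch]

/-- A point of the kernel of a primitive character is a product of cocharacters killing it. -/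
theorem exists_decomp (χ₀ : D.M) (μ₀ : D.M →ₗ[ℤ] ℤ) (hμ : μ₀ χ₀ = 1) (t : aP a K ⟶ D.T) :
    ∃ (n : ℕ) (f : Fin n → (D.M →ₗ[ℤ] ℤ)) (z : Fin n → Kˣ), (∀ i, f i χ₀ = 0) ∧
      t = (List.ofFn fun i => tc D a (f i) (z i)).prod *
        tc D a μ₀ (ch D a t (Multiplicative.ofAdd χ₀)) := by
  classical
  let B := Module.finBasis ℤ D.M
  let f : Fin (Module.finrank ℤ D.M) → (D.M →ₗ[ℤ] ℤ) := fun i => B.coord i - B.coord i χ₀ • μ₀
  refine ⟨_, f, fun i => ch D a t (Multiplicative.ofAdd (B i)), fun i => ?_, ch_injective D a ?_⟩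
  · simp only [f, LinearMap.sub_apply, LinearMap.smul_apply, hμ, smul_eq_mul, mul_one, sub_self]
  refine MonoidHom.ext fun m => ?_
  obtain ⟨m, rfl⟩ := Multiplicative.ofAdd.surjective m
  let ev : (aP a K ⟶ D.T) →* Kˣ :=
    { toFun := fun t => ch D a t (Multiplicative.ofAdd m)
      map_one' := by rw [ch_one]; rfl
      map_mul' := fun t t' => by rw [ch_mul]; rfl }
  let cm : D.M →+ Additive Kˣ := (ch D a t).toAdditiveRight
  show ev t = ev (_ * _)
  rw [map_mul, map_list_prod, List.map_ofFn, List.prod_ofFn]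
  show ch D a t (Multiplicative.ofAdd m) = (∏ i, ch D a _ (Multiplicative.ofAdd m)) * ch D a _ (Multiplicative.ofAdd m)
  simp only [Function.comp_apply, tc, ch_cochT]
  have key : m = (∑ i, f i m • B i) + μ₀ m • χ₀ := by
    have h1 : ∑ i, B.coord i χ₀ • B i = χ₀ := B.sum_repr χ₀
    have h2 : ∑ i, B.coord i m • B i = m := B.sum_repr m
    simp only [f, LinearMap.sub_apply, LinearMap.smul_apply, smul_eq_mul, sub_smul, mul_smul, Finset.sum_sub_distrib]
    rw [h2, show (∑ i, B.coord i χ₀ • μ₀ m • B i) = μ₀ m • χ₀ by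
      simp_rw [smul_comm _ (μ₀ m), ← Finset.smul_sum, h1], sub_add_cancel]
  conv_lhs => rw [key]
  have h3 := congrArg Additive.toMul (cm.map_add (∑ i, f i m • B i) (μ₀ m • χ₀))
  rw [map_sum, toMul_add, toMul_sum] at h3
  refine h3.trans ?_
  congr 1
  · refine Finset.prod_congr rfl fun i _ => ?_
    rw [map_zsmul, toMul_zsmul]; rfl
  · rw [map_zsmul, toMul_zsmul]; rfl

end SplitFib

end
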